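import Groth.Agent.H1DC.Telescope
import Groth.Prelude.Def_ProEtDC
import Groth.Agent.H26ProEt.WC
import Groth.Agent.S7286
import Mathlib.CategoryTheory.Sites.Limits
import Mathlib.CategoryTheory.Abelian.GrothendieckAxioms.Basic

/-!
# Sheaves of modules on the pro-etale site: exact products and derived completeness
-/

set_option autoImplicit false
set_option linter.style.haveILetI false
set_option backward.isDefEq.respectTransparency false

universe u

open CategoryTheory CategoryTheory.Limits AlgebraicGeometry Opposite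

namespace Groth.Agent.H1DC

variable {Λ : Type (u + 1)} [CommRing Λ] {X : Scheme.{u}}

/-- Epimorphisms are surjective on weakly contractible objects. -/
theorem surjective_of_epi {V : X.ProEt} (hV : ProEtS.IsWC V) {F G : EtModW.ModP Λ X} (φ : F ⟶ G) [Epi φ] :
    Function.Surjective (φ.hom.app (op V)) := by
  let J := Scheme.ProEt.topology X
  haveI hφ : Sheaf.IsLocallySurjective φ := (Sheaf.isLocallySurjective_iff_epi' _ φ).2 inferInstance
  let ψ := (sheafCompose J (forget (ModuleCat.{u + 1} Λ))).map φ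
  haveI : Sheaf.IsLocallySurjective ψ := ⟨fun {W} s =>
    J.superset_covering (fun Y g hg => hg) (Presheaf.imageSieve_mem J φ.hom s)⟩
  exact hV _ _ ψ inferInstance

/-- Epimorphisms are detected on weakly contractible affine objects. -/
theorem epi_of_surjective {F G : EtModW.ModP Λ X} (φ : F ⟶ G)
    (h : ∀ V : X.ProEt, IsAffine V.left → ProEtS.IsWC V → Function.Surjective (φ.hom.app (op V))) :
    Epi φ := by
  refine (Sheaf.isLocallySurjective_iff_epi' _ φ).1 ⟨fun {W} s => ?_⟩
  obtain ⟨κ, V, w, hcov, hV⟩ := S7286.result W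
  refine (Scheme.ProEt.topology X).superset_covering ?_ hcov
  rw [Sieve.generate_le_iff, Presieve.ofArrows_le_iff]
  intro k
  haveI := (hV k).1
  exact h (V k) (hV k).1
    (H26ProEt.isWC_of_refines (H26ProEt.refines_of_splits (H26ProEt.splits_iff.1 (hV k).2))) _

instance preservesEpi_lim : (lim : (Discrete ℕ ⥤ EtModW.ModP Λ X) ⥤ EtModW.ModP Λ X).PreservesEpimorphisms := by
  refine ⟨fun {F G} φ hφ => epi_of_surjective _ fun V _ hV y => ?_⟩
  haveI : ∀ j, Epi (φ.app j) := fun j =>
    inferInstanceAs (Epi (((evaluation (Discrete ℕ) (EtModW.ModP Λ X)).obj j).map φ))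
  let E : EtModW.ModP Λ X ⥤ Type (u + 1) :=
    sheafToPresheaf _ _ ⋙ (evaluation _ _).obj (op V) ⋙ forget (ModuleCat.{u + 1} Λ)
  let hF := isLimitOfPreserves E (limit.isLimit F)
  let hG := isLimitOfPreserves E (limit.isLimit G)
  choose x hx using fun j : Discrete ℕ => surjective_of_epi hV (φ.app j) ((limit.π G j).hom.app (op V) y)
  let σ : (F ⋙ E).sections := ⟨x, by
    rintro ⟨i⟩ ⟨j⟩ f
    obtain rfl := Discrete.eq_of_hom f
    rw [show f = 𝟙 _ from Subsingleton.elim _ _, CategoryTheory.Functor.map_id]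
    rfl⟩
  obtain ⟨z, hz⟩ : ∃ z : E.obj (limit F), ∀ j, E.map (limit.π F j) z = x j :=
    ⟨(Types.isLimitEquivSections hF).symm σ, Types.isLimitEquivSections_symm_apply hF σ⟩
  refine ⟨z, (Types.isLimitEquivSections hG).injective (Subtype.ext (funext fun j => ?_))⟩
  show (limit.π G j).hom.app (op V) (((lim : (Discrete ℕ ⥤ EtModW.ModP Λ X) ⥤ _).map φ).hom.app (op V) z) =
    (limit.π G j).hom.app (op V) y
  exact (ConcreteCategory.congr_hom (congrArg (fun q : (limit F ⟶ G.obj j) => q.hom.app (op V)) (limMap_π φ j)) z).trans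
    ((congrArg ((φ.app j).hom.app (op V)) (hz j)).trans (hx j))

instance hasExactLimits : HasExactLimitsOfShape (Discrete ℕ) (EtModW.ModP Λ X) := by
  let L := (lim : (Discrete ℕ ⥤ EtModW.ModP Λ X) ⥤ EtModW.ModP Λ X)
  haveI : L.IsRightAdjoint := constLimAdj.isRightAdjoint
  haveI : (Functor.const (Discrete ℕ) : EtModW.ModP Λ X ⥤ _).Additive := ⟨fun {_ _} {_ _} => rfl⟩
  haveI : L.Additive := constLimAdj.right_adjoint_additive
  haveI : PreservesFiniteLimits L := inferInstance
  refine ⟨((Functor.preservesFiniteColimits_tfae L).out 0 3).1 fun S hS => ?_⟩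
  have h30 : PreservesFiniteLimits L ↔ ∀ (T : ShortComplex (Discrete ℕ ⥤ EtModW.ModP Λ X)), T.ShortExact →
      (T.map L).Exact ∧ Mono (L.map T.f) := (Functor.preservesFiniteLimits_tfae L).out 3 0
  haveI := hS.epi_g
  exact ⟨(h30.1 inferInstance S hS).1, L.map_epi S.g⟩

variable (f : Λ)

/-- Multiplication by a scalar, naturally. -/
noncomputable def smulNat : 𝟭 (EtModW.ModP Λ X) ⟶ 𝟭 (EtModW.ModP Λ X) where
  app F := ProEtDC.smulHom Λ F f
  naturality F G g := by
    refine Sheaf.hom_ext (NatTrans.ext (funext fun U => ModuleCat.hom_ext (LinearMap.ext fun x => ?_)))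
    exact (map_smul (g.hom.app U).hom f x).symm

/-- Multiplication by a scalar on presheaves. -/
noncomputable def smulPre : 𝟭 (X.ProEtᵒᵖ ⥤ ModuleCat.{u + 1} Λ) ⟶ 𝟭 (X.ProEtᵒᵖ ⥤ ModuleCat.{u + 1} Λ) where
  app F := Functor.whiskerLeft F (smulModNat f)
  naturality F G g := by
    refine NatTrans.ext (funext fun U => ?_)
    exact (smulModNat f).naturality (g.app U)

theorem presheafToSheaf_smul (P : X.ProEtᵒᵖ ⥤ ModuleCat.{u + 1} Λ) :
    (presheafToSheaf (Scheme.ProEt.topology X) (ModuleCat.{u + 1} Λ)).map ((smulPre f).app P) =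
      (smulNat f).app ((presheafToSheaf _ _).obj P) := by
  let adj := sheafificationAdjunction (Scheme.ProEt.topology X) (ModuleCat.{u + 1} Λ)
  apply (adj.homEquiv _ _).injective
  rw [Adjunction.homEquiv_unit, Adjunction.homEquiv_unit]
  refine (adj.unit.naturality ((smulPre f).app P)).symm.trans ?_
  exact NatTrans.ext (funext fun U => ((smulModNat f).naturality ((adj.unit.app P).app U)).symm)

theorem mono_psi (B : EtModW.ModP Λ X) : Mono (psi' (smulNat f) B) := by
  let L := presheafToSheaf (Scheme.ProEt.topology X) (ModuleCat.{u + 1} Λ)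
  let e := (asIso (sheafificationAdjunction (Scheme.ProEt.topology X) (ModuleCat.{u + 1} Λ)).counit).app B
  haveI : Mono (psi' (smulPre f) B.obj) := by
    haveI : ∀ U, Mono ((psi' (smulPre f) B.obj).app U) := fun U => by
      let ev := (evaluation X.ProEtᵒᵖ (ModuleCat.{u + 1} Λ)).obj U
      haveI : Mono (psi' (smulModNat f) (ev.obj B.obj)) := mono_psi'_mod f (B.obj.obj U)
      haveI : Mono (sigmaComparison ev (fun _ : ℕ => B.obj) ≫ ev.map (psi' (smulPre f) B.obj)) := by
        rw [← psi'_comp_sigmaComparison ev (smulPre f) (smulModNat f) B.obj rfl]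
        exact mono_comp _ _
      have : ev.map (psi' (smulPre f) B.obj) = inv (sigmaComparison ev (fun _ : ℕ => B.obj)) ≫
          sigmaComparison ev (fun _ : ℕ => B.obj) ≫ ev.map (psi' (smulPre f) B.obj) := by simp
      show Mono (ev.map _)
      rw [this]
      infer_instance
    exact NatTrans.mono_of_mono_app _
  haveI := mono_psi'_map L (smulPre f) (smulNat f) B.obj (presheafToSheaf_smul f B.obj)
  have h : psi' (smulNat f) (L.obj B.obj) ≫ Limits.Sigma.map (fun _ : ℕ => e.hom) =
      Limits.Sigma.map (fun _ : ℕ => e.hom) ≫ psi' (smulNat f) B := by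
    refine Sigma.hom_ext _ _ fun n => ?_
    simp only [psi', Sigma.ι_desc_assoc, Preadditive.sub_comp, Category.assoc, Sigma.ι_map,
      Sigma.ι_map_assoc, Sigma.ι_desc, Preadditive.comp_sub]
    congr 1
    exact ((Category.assoc _ _ _).symm.trans (congrArg (· ≫ _) ((smulNat f).naturality e.hom).symm)).trans
      (Category.assoc _ _ _)
  haveI hI : IsIso (Limits.Sigma.map (fun _ : ℕ => e.hom)) := (Limits.Sigma.mapIso fun _ : ℕ => e).isIso_hom
  rw [show psi' (smulNat f) B = inv (Limits.Sigma.map (fun _ : ℕ => e.hom)) ≫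
    psi' (smulNat f) (L.obj B.obj) ≫ Limits.Sigma.map (fun _ : ℕ => e.hom) by rw [h, IsIso.inv_hom_id_assoc]]
  exact @mono_comp _ _ _ _ _ _ (@IsIso.mono_of_iso _ _ _ _ _ (@IsIso.inv_isIso _ _ _ _ _ hI)) _
    (@mono_comp _ _ _ _ _ _ ‹Mono (psi' (smulNat f) (L.obj B.obj))› _ (@IsIso.mono_of_iso _ _ _ _ _ hI))

variable (U : X.ProEt)

/-- Extension by zero of constant sheaves. -/
noncomputable abbrev G : ModuleCat.{u + 1} Λ ⥤ EtModW.ModP Λ X :=
  constantSheaf ((Scheme.ProEt.topology X).over U) (ModuleCat.{u + 1} Λ) ⋙ ProEtDC.extZeroModP Λ U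

/-- Sections over an object. -/
noncomputable abbrev R : EtModW.ModP Λ X ⥤ ModuleCat.{u + 1} Λ :=
  (Over.forget U).sheafPushforwardContinuous (ModuleCat.{u + 1} Λ) ((Scheme.ProEt.topology X).over U)
    (Scheme.ProEt.topology X) ⋙ (sheafSections _ _).obj (op (Over.mk (𝟙 U)))

/-- The adjunction. -/
noncomputable def adjG : G (Λ := Λ) U ⊣ R U :=
  (constantSheafAdj ((Scheme.ProEt.topology X).over U) (ModuleCat.{u + 1} Λ) Over.mkIdTerminal).comp
    ((Over.forget U).sheafAdjunctionContinuous (ModuleCat.{u + 1} Λ) ((Scheme.ProEt.topology X).over U)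
      (Scheme.ProEt.topology X))

theorem G_smul (M : ModuleCat.{u + 1} Λ) :
    (G U).map ((smulModNat f).app M) = (smulNat (X := X) f).app ((G U).obj M) := by
  apply ((adjG U).homEquiv _ _).injective
  rw [Adjunction.homEquiv_unit, Adjunction.homEquiv_unit]
  exact ((adjG U).unit.naturality ((smulModNat f).app M)).symm.trans
    ((smulModNat f).naturality ((adjG U).unit.app M)).symm

theorem R_additive : (R (Λ := Λ) U).Additive := by
  haveI : (R (Λ := Λ) U).IsRightAdjoint := (adjG U).isRightAdjoint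
  haveI : PreservesLimitsOfShape (Discrete WalkingPair) (R (Λ := Λ) U) := inferInstance
  haveI := preservesBinaryBiproducts_of_preservesBinaryProducts (R (Λ := Λ) U)
  exact Functor.additive_of_preservesBinaryBiproducts _

theorem G_additive : (G (Λ := Λ) U).Additive :=
  haveI := R_additive (Λ := Λ) U
  (adjG U).left_adjoint_additive

/-- The free sheaf on an object. -/
noncomputable abbrev free : EtModW.ModP Λ X := (G U).obj (ModuleCat.of Λ Λ)

theorem exists_shortExact_locExt : ∃ (π : (∐ fun _ : ℕ => free (Λ := Λ) U) ⟶ ProEtDC.locExt Λ U f)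
    (w : psi (smulNat f) (free U) ≫ π = 0), (ShortComplex.mk _ π w).ShortExact := by
  obtain ⟨π, w, hS⟩ := exists_shortExact_loc f
  haveI : (G (Λ := Λ) U).IsLeftAdjoint := (adjG U).isLeftAdjoint
  haveI : (G (Λ := Λ) U).Additive := G_additive U
  haveI : PreservesFiniteColimits (G (Λ := Λ) U) := inferInstance
  haveI := mono_psi f (free (Λ := Λ) U)
  exact shortExact_map (G U) (smulModNat f) (smulNat f) (ModuleCat.of Λ Λ) (G_smul f U _) π w hS

theorem eq_zero_of_free {F F' : EtModW.ModP Λ X} (g : F ⟶ F')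
    (h : ∀ (U : X.ProEt) (b : free U ⟶ F), b ≫ g = 0) : g = 0 := by
  refine Sheaf.hom_ext (NatTrans.ext (funext fun V => ModuleCat.hom_ext (LinearMap.ext fun x => ?_)))
  let a : ModuleCat.of Λ Λ ⟶ (R V.unop).obj F := ModuleCat.ofHom (LinearMap.toSpanSingleton Λ _ x)
  have h1 := congrArg ((adjG V.unop).homEquiv _ _) (h V.unop (((adjG V.unop).homEquiv _ _).symm a))
  rw [Adjunction.homEquiv_naturality_right, Equiv.apply_symm_apply] at h1
  have h2 : ((adjG V.unop).homEquiv (ModuleCat.of Λ Λ) F') 0 = 0 := by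
    rw [Adjunction.homEquiv_unit]
    haveI : (R (Λ := Λ) V.unop).Additive := R_additive V.unop
    simp
  have h3 := ConcreteCategory.congr_hom (h1.trans h2) (1 : Λ)
  have h4 : (R V.unop).map g (a (1 : Λ)) = 0 := h3
  rw [show a (1 : Λ) = x from one_smul Λ x] at h4
  exact h4

section Derived

attribute [local instance] HasDerivedCategory.standard

/-- Derived completeness through cohomology sheaves. -/
theorem isDC_iff (I : Ideal Λ) (K : ProEtDC.DP Λ X) :
    ProEtDC.IsDC Λ I K ↔ ∀ f ∈ I, ∀ p : ℤ, IsIso (theta (smulNat f) (ProEtDC.HDP K p)) := by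
  have key : ∀ f : Λ, (∀ (U : X.ProEt) (n : ℤ), Subsingleton
      ((DerivedCategory.singleFunctor (EtModW.ModP Λ X) 0).obj (ProEtDC.locExt Λ U f) ⟶
        (shiftFunctor (ProEtDC.DP Λ X) n).obj K)) ↔
      ∀ p : ℤ, IsIso (theta (smulNat f) (ProEtDC.HDP K p)) := fun f => by
    choose π w hS using fun U => exists_shortExact_locExt (Λ := Λ) (X := X) f U
    exact main (smulNat f) (fun U : X.ProEt => free U) (fun U => ProEtDC.locExt Λ U f) π w hS
      (fun _ _ g hg => eq_zero_of_free g hg) K
  exact ⟨fun h f hf => (key f).1 fun U n => h U f hf n, fun h U f hf n => (key f).2 (h f hf) U n⟩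

theorem isDCSheaf_iff (I : Ideal Λ) (F : EtModW.ModP Λ X) :
    ProEtDC.IsDCSheaf Λ I F ↔ ∀ f ∈ I, IsIso (theta (smulNat f) F) := by
  let K : ProEtDC.DP Λ X := (DerivedCategory.singleFunctor (EtModW.ModP Λ X) 0).obj F
  have h0 : ProEtDC.IsDCSheaf Λ I F ↔ ProEtDC.IsDC Λ I K := by
    refine forall_congr' fun U => forall_congr' fun f => forall_congr' fun _ => ⟨fun h n => ?_, fun h n => ?_⟩
    · obtain ⟨m, rfl⟩ | hn : (∃ m : ℕ, n = m) ∨ n < 0 := by
        rcases le_or_gt 0 n with hn | hn
        · exact Or.inl ⟨n.toNat, (Int.toNat_of_nonneg hn).symm⟩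
        · exact Or.inr hn
      · exact @Equiv.subsingleton _ _ Abelian.Ext.homEquiv.{u + 2, u + 1}.symm (h m)
      · refine ⟨fun a b => ?_⟩
        haveI : (K⟦n⟧).IsGE (-n) :=
          DerivedCategory.TStructure.t.isGE_shift K 0 n (-n) (by omega)
        exact (DerivedCategory.TStructure.t.zero_of_isLE_of_isGE a 0 (-n) (by omega) inferInstance inferInstance).trans
          (DerivedCategory.TStructure.t.zero_of_isLE_of_isGE b 0 (-n) (by omega) inferInstance inferInstance).symm
    · exact @Equiv.subsingleton _ _ Abelian.Ext.homEquiv.{u + 2, u + 1} (h n)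
  rw [h0, isDC_iff]
  refine forall_congr' fun f => forall_congr' fun _ => ⟨fun h => ?_, fun h p => ?_⟩
  · exact (isIso_theta_iff_of_iso (smulNat f)
      ((DerivedCategory.singleFunctorCompHomologyFunctorIso (EtModW.ModP Λ X) 0).app F)).1 (h 0)
  · rcases eq_or_ne p 0 with rfl | hp
    · exact (isIso_theta_iff_of_iso (smulNat f)
        ((DerivedCategory.singleFunctorCompHomologyFunctorIso (EtModW.ModP Λ X) 0).app F)).2 h
    · have hz : IsZero (ProEtDC.HDP K p) := by
        refine IsZero.of_iso ?_ ((DerivedCategory.homologyFunctorFactors (EtModW.ModP Λ X) p).app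
          ((HomologicalComplex.single (EtModW.ModP Λ X) (ComplexShape.up ℤ) 0).obj F))
        exact HomologicalComplex.isZero_single_obj_homology (ComplexShape.up ℤ) 0 F p hp
      have hP : IsZero (∏ᶜ fun _ : ℕ => ProEtDC.HDP K p) :=
        (IsZero.iff_id_eq_zero _).2 (Pi.hom_ext _ _ fun n => (hz.eq_of_tgt _ _))
      exact ⟨⟨0, hP.eq_of_src _ _, hP.eq_of_src _ _⟩⟩

end Derived

end Groth.Agent.H1DC
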