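import Groth.Agent.H16Derived.KInjRes.Countable
import Mathlib.Algebra.Homology.DerivedCategory.SingleTriangle
import Mathlib.Algebra.Homology.DerivedCategory.HomologySequence

/-!
# Derived completeness along an endomorphism of the identity functor

In a Grothendieck abelian category with exact countable products, vanishing of all maps from the
telescope of `t` into an object `K` of the derived category is invertibility of `1 - t ∘ shift` on
the countable powers of the cohomology objects of `K`.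
-/

set_option autoImplicit false
set_option linter.style.haveILetI false
set_option backward.isDefEq.respectTransparency false
set_option linter.unusedSectionVars false

universe w v u

open CategoryTheory CategoryTheory.Limits CategoryTheory.Pretriangulated DerivedCategory ZeroObject

namespace Groth.Agent.H1DC

variable {A : Type u} [Category.{v} A] [Abelian A]

section Basic

variable (t : 𝟭 A ⟶ 𝟭 A)

/-- `(x n) ↦ (t (x (n+1)) - x n)` on a countable power. -/
noncomputable def theta [HasCountableProducts A] (X : A) : (∏ᶜ fun _ : ℕ => X) ⟶ ∏ᶜ fun _ : ℕ => X :=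
  Pi.lift fun n => Pi.π _ (n + 1) ≫ t.app X - Pi.π (fun _ : ℕ => X) n

/-- `t` on complexes. -/
noncomputable def tC (M : CochainComplex A ℤ) : M ⟶ M where
  f i := t.app (M.X i)
  comm' i j _ := (t.naturality (M.d i j)).symm

theorem tC_naturality {M N : CochainComplex A ℤ} (g : M ⟶ N) : g ≫ tC t N = tC t M ≫ g := by
  ext i
  exact t.naturality (g.f i)

theorem app_of_iso {Y X : A} (e : Y ≅ X) : t.app Y = e.hom ≫ t.app X ≫ e.inv := by
  have h : e.hom ≫ t.app X = t.app Y ≫ e.hom := t.naturality e.hom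
  rw [← Category.assoc, h, Category.assoc, e.hom_inv_id]
  exact (Category.comp_id _).symm

theorem tC_single (X : A) :
    tC t ((HomologicalComplex.single A (ComplexShape.up ℤ) 0).obj X) =
      (HomologicalComplex.single A (ComplexShape.up ℤ) 0).map (t.app X) := by
  refine HomologicalComplex.from_single_hom_ext ?_
  rw [HomologicalComplex.single_map_f_self]
  exact app_of_iso t (HomologicalComplex.singleObjXSelf (ComplexShape.up ℤ) 0 X)

theorem tC_shift (M : CochainComplex A ℤ) (n : ℤ) :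
    (shiftFunctor (CochainComplex A ℤ) n).map (tC t M) = tC t ((shiftFunctor (CochainComplex A ℤ) n).obj M) := by
  ext i
  rfl

theorem homologyMap_tC (M : CochainComplex A ℤ) (p : ℤ) :
    HomologicalComplex.homologyMap (tC t M) p = t.app (M.homology p) := by
  rw [← cancel_epi (M.homologyπ p), HomologicalComplex.homologyπ_naturality]
  have h : HomologicalComplex.cyclesMap (tC t M) p = t.app (M.cycles p) := by
    rw [← cancel_mono (M.iCycles p), HomologicalComplex.cyclesMap_i]
    exact t.naturality (M.iCycles p)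
  rw [h]
  exact (t.naturality (M.homologyπ p)).symm

/-- A powers of isomorphic objects. -/
theorem isIso_theta_iff_of_iso [HasCountableProducts A] {X Y : A} (e : X ≅ Y) :
    IsIso (theta t X) ↔ IsIso (theta t Y) := by
  let E : (∏ᶜ fun _ : ℕ => X) ≅ ∏ᶜ fun _ : ℕ => Y := Pi.mapIso fun _ => e
  have hE : ∀ n, E.hom ≫ Pi.π (fun _ : ℕ => Y) n = Pi.π (fun _ : ℕ => X) n ≫ e.hom := fun n => by
    simp [E]
  have h : theta t X ≫ E.hom = E.hom ≫ theta t Y := Pi.hom_ext _ _ fun n => by
    simp only [theta, Category.assoc, hE, Pi.lift_π, Preadditive.comp_sub, Preadditive.sub_comp,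
      Pi.lift_π_assoc, reassoc_of% hE]
    congr 1
    exact congrArg (Pi.π (fun _ : ℕ => X) (n + 1) ≫ ·) (t.naturality e.hom).symm
  rw [← isIso_comp_right_iff (theta t X) E.hom, h, isIso_comp_left_iff]

end Basic

section Triangle

variable {D : Type u} [Category.{v} D] [Preadditive D] [HasShift D ℤ] [HasZeroObject D]
  [∀ n : ℤ, (shiftFunctor D n).Additive] [Pretriangulated D]

theorem subsingleton_iff_bijective_precomp {T : Triangle D} (hT : T ∈ distTriang D) (K : D) :
    (∀ n : ℤ, Subsingleton (T.obj₃ ⟶ K⟦n⟧)) ↔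
      ∀ n : ℤ, Function.Bijective fun y : T.obj₂ ⟶ K⟦n⟧ => T.mor₁ ≫ y := by
  constructor
  · intro h n
    refine ⟨fun a b hab => ?_, fun x => ?_⟩
    · rw [← sub_eq_zero]
      obtain ⟨g, hg⟩ := Triangle.yoneda_exact₂ _ hT (a - b) (by
        rw [Preadditive.comp_sub, sub_eq_zero]; exact hab)
      rw [hg, (h n).elim g 0, comp_zero]
    · let d : T.obj₃⟦(-1 : ℤ)⟧ ⟶ K⟦n⟧ := T.invRotate.mor₁ ≫ (x : T.invRotate.obj₂ ⟶ K⟦n⟧)
      have h0 : d = 0 := by
        let e₁ := (shiftFunctorCompIsoId D (-1 : ℤ) 1 (by omega)).app T.obj₃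
        let e₂ := (shiftFunctorAdd' D n 1 (n + 1) rfl).app K
        have h2 : e₁.inv ≫ d⟦(1 : ℤ)⟧' ≫ e₂.inv = 0 := (h (n + 1)).elim _ _
        refine (shiftFunctor D (1 : ℤ)).map_injective ?_
        rw [Functor.map_zero]
        rw [Preadditive.IsIso.comp_left_eq_zero, Preadditive.IsIso.comp_right_eq_zero] at h2
        exact h2
      obtain ⟨y, hy⟩ := Triangle.yoneda_exact₂ _ (inv_rot_of_distTriang _ hT) x h0
      exact ⟨y, hy.symm⟩
  · intro h n
    refine ⟨fun a b => ?_⟩
    suffices hz : ∀ g : T.obj₃ ⟶ K⟦n⟧, g = 0 by rw [hz a, hz b]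
    intro g
    obtain ⟨k, hk⟩ := Triangle.yoneda_exact₃ _ hT g ((h n).1 (by
      simp [comp_distTriang_mor_zero₁₂_assoc _ hT]))
    let e := (shiftFunctorAdd' D (n - 1) 1 n (by omega)).symm.app K
    obtain ⟨x, hx⟩ := (shiftFunctor D (1 : ℤ)).map_surjective (k ≫ e.inv)
    obtain ⟨y, rfl⟩ := (h (n - 1)).2 x
    rw [hk]
    rw [← cancel_mono e.inv, Category.assoc, ← hx, Functor.map_comp,
      comp_distTriang_mor_zero₃₁_assoc _ hT, zero_comp, zero_comp]

theorem subsingleton_of_bijective_postcomp {T : Triangle D} (hT : T ∈ distTriang D) (S : D)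
    (h : ∀ n : ℤ, Function.Bijective fun x : S⟦n⟧ ⟶ T.obj₁ => x ≫ T.mor₁) (n : ℤ) :
    Subsingleton (S⟦n⟧ ⟶ T.obj₃) := by
  refine ⟨fun a b => ?_⟩
  suffices hz : ∀ g : S⟦n⟧ ⟶ T.obj₃, g = 0 by rw [hz a, hz b]
  intro g
  let e := (shiftFunctorAdd' D (n - 1) 1 n (by omega)).app S
  obtain ⟨k, hk⟩ := (shiftFunctor D (1 : ℤ)).map_surjective (e.inv ≫ g ≫ T.mor₃)
  have hk0 : k = 0 := (h (n - 1)).1 (by
    show k ≫ T.mor₁ = 0 ≫ T.mor₁
    rw [zero_comp]
    refine (shiftFunctor D (1 : ℤ)).map_injective ?_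
    rw [Functor.map_comp, hk, Category.assoc, Category.assoc, comp_distTriang_mor_zero₃₁ _ hT,
      comp_zero, comp_zero, Functor.map_zero])
  rw [hk0, Functor.map_zero, eq_comm, Preadditive.IsIso.comp_left_eq_zero] at hk
  obtain ⟨y, rfl⟩ := Triangle.coyoneda_exact₃ _ hT g hk
  obtain ⟨x, rfl⟩ := (h n).2 y
  rw [Category.assoc, comp_distTriang_mor_zero₁₂ _ hT, comp_zero]

end Triangle

section Core

variable [IsGrothendieckAbelian.{v} A] [HasDerivedCategory.{w} A] (t : 𝟭 A ⟶ 𝟭 A)

open H16Derived.KInjRes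

/-- `t` on complexes, naturally. -/
noncomputable def tCN : 𝟭 (CochainComplex A ℤ) ⟶ 𝟭 (CochainComplex A ℤ) where
  app := tC t
  naturality _ _ g := tC_naturality t g

/-- The telescope of `t`. -/
noncomputable def psi (B : A) : (∐ fun _ : ℕ => B) ⟶ ∐ fun _ : ℕ => B :=
  Sigma.desc fun n =>
    ((t.app B ≫ Sigma.ι (fun _ : ℕ => B) (n + 1) : B ⟶ ∐ fun _ : ℕ => B) - Sigma.ι (fun _ : ℕ => B) n)

theorem nonempty_isColimit_single (B : A) :
    Nonempty (IsColimit (Cofan.mk ((singleFunctor A 0).obj (∐ fun _ : ℕ => B))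
      fun k => (singleFunctor A 0).map (Sigma.ι (fun _ : ℕ => B) k) :
        Cofan fun _ : ℕ => (singleFunctor A 0).obj B)) := by
  let sg := HomologicalComplex.single A (ComplexShape.up ℤ) 0
  haveI : PreservesColimit (Discrete.functor (fun _ : ℕ => B) ⋙ sg) (DerivedCategory.Q (C := A)) :=
    haveI := preservesCoproduct_Q (fun _ : ℕ => sg.obj B)
    preservesColimit_of_iso_diagram _
      (Discrete.natIso fun _ => Iso.refl _ :
        Discrete.functor (fun _ : ℕ => sg.obj B) ≅ Discrete.functor (fun _ : ℕ => B) ⋙ sg)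
  haveI : PreservesColimit (Discrete.functor fun _ : ℕ => B) (sg ⋙ DerivedCategory.Q) :=
    comp_preservesColimit _ _
  exact ⟨isColimitCofanMkObjOfIsColimit (sg ⋙ DerivedCategory.Q) _ _ (coproductIsCoproduct fun _ : ℕ => B)⟩

theorem comp_QtC {M I : CochainComplex A ℤ} [I.IsKInjective] (y : Q.obj M ⟶ Q.obj I) :
    y ≫ Q.map (tC t I) = Q.map (tC t M) ≫ y := by
  obtain ⟨g, rfl⟩ := exists_Q_map_eq y
  rw [← Functor.map_comp, ← Functor.map_comp, tC_naturality]

theorem map_tApp_comp (B : A) {I : CochainComplex A ℤ} [I.IsKInjective] (n : ℤ)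
    (y : (singleFunctor A 0).obj B ⟶ (Q.obj I)⟦n⟧) :
    y ≫ (Q.map (tC t I))⟦n⟧' = (singleFunctor A 0).map (t.app B) ≫ y := by
  haveI : CochainComplex.IsKInjective (I⟦n⟧) := (CochainComplex.isKInjective_shift_iff I n).2 ‹_›
  let c := (Q.commShiftIso n).app I
  have hc : c.hom ≫ (Q.map (tC t I))⟦n⟧' = Q.map (tC t (I⟦n⟧)) ≫ c.hom := by
    rw [← tC_shift]
    exact ((Q.commShiftIso n).hom.naturality (tC t I)).symm
  have hy : (y ≫ c.inv) ≫ Q.map (tC t (I⟦n⟧)) = Q.map (tC t _) ≫ (y ≫ c.inv) :=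
    comp_QtC t (M := (HomologicalComplex.single A (ComplexShape.up ℤ) 0).obj B) (y ≫ c.inv)
  have hs : Q.map (tC t ((HomologicalComplex.single A (ComplexShape.up ℤ) 0).obj B)) =
      (singleFunctor A 0).map (t.app B) := by rw [tC_single]; rfl
  calc y ≫ (Q.map (tC t I))⟦n⟧' = ((y ≫ c.inv) ≫ Q.map (tC t (I⟦n⟧))) ≫ c.hom := by
        simp only [Category.assoc, ← hc, c.inv_hom_id_assoc]
    _ = _ := by
        rw [hy]
        exact ((Category.assoc _ _ _).trans (congrArg₂ (· ≫ ·) hs
          ((Category.assoc _ _ _).trans ((congrArg (y ≫ ·) c.inv_hom_id).trans (Category.comp_id _)))))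

theorem isZero_of_subsingleton {J : Type*} (B : J → A)
    (hsep : ∀ ⦃X Y : A⦄ (f : X ⟶ Y), (∀ j (b : B j ⟶ X), b ≫ f = 0) → f = 0) (C : DerivedCategory A)
    (h : ∀ j (n : ℤ), Subsingleton ((singleFunctor A 0).obj (B j) ⟶ C⟦n⟧)) : IsZero C := by
  suffices hh : ∀ q, IsZero ((homologyFunctor A q).obj C) by
    haveI : IsIso (0 : C ⟶ (0 : DerivedCategory A)) := (DerivedCategory.isIso_iff A _).2 fun q =>
      ⟨⟨0, (hh q).eq_of_src _ _, ((homologyFunctor A q).map_isZero (isZero_zero _)).eq_of_src _ _⟩⟩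
    exact IsZero.of_iso (isZero_zero _) (asIso (0 : C ⟶ (0 : DerivedCategory A)))
  intro q
  refine IsZero.of_iso ?_ (((homologyFunctor A 0).shiftIso q 0 q (by omega)).app C).symm
  let M := Q.objPreimage (C⟦q⟧)
  let e : Q.obj M ≅ C⟦q⟧ := Q.objObjPreimageIso _
  refine IsZero.of_iso ?_ ((homologyFunctor A 0).mapIso e.symm ≪≫ (homologyFunctorFactors A 0).app M)
  rw [IsZero.iff_id_eq_zero, ← cancel_epi (M.homologyπ 0)]
  refine (Category.comp_id (M.homologyπ 0)).trans (Eq.trans ?_ comp_zero.symm)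
  refine hsep _ fun j b => ?_
  let g : (HomologicalComplex.single A (ComplexShape.up ℤ) 0).obj (B j) ⟶ M :=
    HomologicalComplex.mkHomFromSingle (b ≫ M.iCycles 0) (fun k _ => by simp)
  haveI := h j q
  have hg : Q.map g = 0 := (cancel_mono e.hom).1 (Subsingleton.elim
    (α := (singleFunctor A 0).obj (B j) ⟶ C⟦q⟧) (Q.map g ≫ e.hom) (0 ≫ e.hom))
  have h0 : HomologicalComplex.homologyMap g 0 = 0 := by
    have h1 := (homologyFunctorFactors A 0).hom.naturality g
    simp only [Functor.comp_map, hg, Functor.map_zero, zero_comp] at h1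
    exact (cancel_epi ((homologyFunctorFactors A 0).hom.app _)).1 (h1.symm.trans comp_zero.symm)
  let i₀ := HomologicalComplex.singleObjCyclesSelfIso (ComplexShape.up ℤ) (0 : ℤ) (B j)
  have hc : i₀.inv ≫ HomologicalComplex.cyclesMap g 0 = b := by
    rw [← cancel_mono (M.iCycles 0)]
    simp [i₀, g, HomologicalComplex.singleObjCyclesSelfIso]
  rw [← hc, Category.assoc, ← HomologicalComplex.homologyπ_naturality, h0, comp_zero, comp_zero]

theorem bijective_conj_iff {α α' β β' : Type*} (e : α ≃ α') (e' : β ≃ β') (f : α → β) (g : α' → β')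
    (h : ∀ x, e' (f x) = g (e x)) : Function.Bijective f ↔ Function.Bijective g := by
  have : g = e' ∘ f ∘ e.symm := funext fun y => by simp [h]
  rw [this, e'.comp_bijective, Equiv.bijective_comp]

theorem bijective_shift_iff {X Y S : DerivedCategory A} (φ : X ⟶ Y) (n : ℤ) :
    (Function.Bijective fun x : S ⟶ X⟦n⟧ => x ≫ φ⟦n⟧') ↔
      Function.Bijective fun x : S⟦-n⟧ ⟶ X => x ≫ φ := by
  let adj := (shiftEquiv' (DerivedCategory A) (-n) n (by omega)).toAdjunction
  exact (bijective_conj_iff (adj.homEquiv S X) (adj.homEquiv S Y) _ _ fun x =>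
    adj.homEquiv_naturality_right x φ).symm

variable [HasExactLimitsOfShape (Discrete ℕ) A]

theorem isIso_Q_theta_iff (I : CochainComplex A ℤ) [I.IsKInjective] :
    IsIso (Q.map (theta (tCN t) I)) ↔ ∀ p : ℤ, IsIso (theta t ((homologyFunctor A p).obj (Q.obj I))) := by
  rw [DerivedCategory.isIso_iff]
  refine forall_congr' fun p => ?_
  obtain ⟨hl⟩ := Countable.nonempty_isLimit_homology (fun _ : ℕ => I) _ (productIsProduct _) p
  let H := HomologicalComplex.homologyFunctor A (ComplexShape.up ℤ) p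
  let φ := homologyFunctorFactors A p
  let E : (∏ᶜ fun _ : ℕ => I).homology p ≅ ∏ᶜ fun _ : ℕ => I.homology p :=
    hl.conePointUniqueUpToIso (limit.isLimit _)
  have hE : ∀ k, E.hom ≫ Pi.π (fun _ : ℕ => I.homology p) k = H.map (Pi.π (fun _ : ℕ => I) k) := fun k =>
    hl.conePointUniqueUpToIso_hom_comp (limit.isLimit _) ⟨k⟩
  have hθ : H.map (theta (tCN t) I) ≫ E.hom = E.hom ≫ theta t (I.homology p) := Pi.hom_ext _ _ fun k => by
    simp only [theta, Category.assoc, hE, Pi.lift_π, Preadditive.comp_sub, reassoc_of% hE]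
    rw [← Functor.map_comp, Pi.lift_π, Functor.map_sub, Functor.map_comp]
    congr 2
    exact homologyMap_tC t I p
  refine Iff.trans ?_ (isIso_theta_iff_of_iso t (φ.app I)).symm
  have h2 : (homologyFunctor A p).map (Q.map (theta (tCN t) I)) =
      φ.hom.app _ ≫ H.map (theta (tCN t) I) ≫ φ.inv.app _ := by
    rw [← φ.hom.naturality_assoc, Iso.hom_inv_id_app]
    exact (Category.comp_id _).symm
  rw [h2, isIso_comp_left_iff, isIso_comp_right_iff, ← isIso_comp_right_iff _ E.hom, hθ, isIso_comp_left_iff]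
  rfl

theorem main {J : Type*} (B P : J → A) (π : ∀ j, (∐ fun _ : ℕ => B j) ⟶ P j)
    (zero : ∀ j, psi t (B j) ≫ π j = 0)
    (hS : ∀ j, (ShortComplex.mk (psi t (B j)) (π j) (zero j)).ShortExact)
    (hsep : ∀ ⦃X Y : A⦄ (f : X ⟶ Y), (∀ j (b : B j ⟶ X), b ≫ f = 0) → f = 0) (K : DerivedCategory A) :
    (∀ j (n : ℤ), Subsingleton ((singleFunctor A 0).obj (P j) ⟶ K⟦n⟧)) ↔
      ∀ p : ℤ, IsIso (theta t ((homologyFunctor A p).obj K)) := by
  obtain ⟨I, hI, ⟨e⟩⟩ := exists_kInjective_iso K
  haveI := hI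
  rw [forall_congr' fun p => isIso_theta_iff_of_iso t ((homologyFunctor A p).mapIso e),
    ← isIso_Q_theta_iff]
  have hv : ∀ j, (∀ n : ℤ, Subsingleton ((singleFunctor A 0).obj (P j) ⟶ K⟦n⟧)) ↔
      ∀ n : ℤ, Function.Bijective fun x : (singleFunctor A 0).obj (B j) ⟶ (Q.obj (∏ᶜ fun _ : ℕ => I))⟦n⟧ =>
        x ≫ (Q.map (theta (tCN t) I))⟦n⟧' := by
    intro j
    have h1 : ∀ n : ℤ, Subsingleton ((singleFunctor A 0).obj (P j) ⟶ K⟦n⟧) ↔
        Subsingleton ((singleFunctor A 0).obj (P j) ⟶ (Q.obj I)⟦n⟧) := fun n =>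
      ((shiftFunctor (DerivedCategory A) n).mapIso e).homToEquiv.subsingleton_congr
    refine (forall_congr' h1).trans ((subsingleton_iff_bijective_precomp (hS j).singleTriangle_distinguished
      (Q.obj I)).trans (forall_congr' fun n => ?_))
    obtain ⟨hc⟩ := nonempty_isColimit_single (B j)
    obtain ⟨hl⟩ := Countable.nonempty_isLimit_Q (fun _ : ℕ => I) (fun _ => hI) _ (productIsProduct _)
    let F := shiftFunctor (DerivedCategory A) n
    have hl' := isLimitFanMkObjOfIsLimit F _ _ hl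
    let β : ((singleFunctor A 0).obj (∐ fun _ : ℕ => B j) ⟶ (Q.obj I)⟦n⟧) ≃
        (ℕ → ((singleFunctor A 0).obj (B j) ⟶ (Q.obj I)⟦n⟧)) :=
      { toFun := fun y k => (singleFunctor A 0).map (Sigma.ι (fun _ : ℕ => B j) k) ≫ y
        invFun := fun x => Cofan.IsColimit.desc hc x
        left_inv := fun y => Cofan.IsColimit.hom_ext hc _ _ fun k => Cofan.IsColimit.fac hc _ k
        right_inv := fun x => funext fun k => Cofan.IsColimit.fac hc _ k }
    let α : ((singleFunctor A 0).obj (B j) ⟶ (Q.obj (∏ᶜ fun _ : ℕ => I))⟦n⟧) ≃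
        (ℕ → ((singleFunctor A 0).obj (B j) ⟶ (Q.obj I)⟦n⟧)) :=
      { toFun := fun y k => y ≫ F.map (Q.map (Pi.π (fun _ : ℕ => I) k))
        invFun := fun x => Fan.IsLimit.lift hl' x
        left_inv := fun y => Fan.IsLimit.hom_ext hl' _ _ fun k => Fan.IsLimit.fac hl' _ k
        right_inv := fun x => funext fun k => Fan.IsLimit.fac hl' _ k }
    refine bijective_conj_iff (β.trans α.symm) (β.trans α.symm) _ _ fun y => α.injective (funext fun k => ?_)
    obtain ⟨x, rfl⟩ := β.symm.surjective y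
    simp only [Equiv.trans_apply, Equiv.apply_symm_apply]
    show (singleFunctor A 0).map (Sigma.ι (fun _ : ℕ => B j) k) ≫
        (singleFunctor A 0).map (psi t (B j)) ≫ β.symm x =
      ((α.symm x) ≫ (Q.map (theta (tCN t) I))⟦n⟧') ≫ F.map (Q.map (Pi.π (fun _ : ℕ => I) k))
    have ha : ∀ k, α.symm x ≫ F.map (Q.map (Pi.π (fun _ : ℕ => I) k)) = x k := fun k =>
      congrFun (α.apply_symm_apply x) k
    have hb : ∀ k, (singleFunctor A 0).map (Sigma.ι (fun _ : ℕ => B j) k) ≫ β.symm x = x k := fun k =>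
      congrFun (β.apply_symm_apply x) k
    rw [← Functor.map_comp_assoc, psi, Sigma.ι_desc, Functor.map_sub, Preadditive.sub_comp, Functor.map_comp,
      Category.assoc, hb, hb, Category.assoc, ← Functor.map_comp, ← Functor.map_comp, theta, Pi.lift_π,
      Functor.map_sub, Functor.map_sub, Preadditive.comp_sub, Functor.map_comp, Functor.map_comp,
      ← Category.assoc, ha, ha]
    congr 1
    exact (map_tApp_comp t (B j) n (x (k + 1))).symm
  rw [forall_congr' hv]
  constructor
  · intro h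
    obtain ⟨C, g, d, hT⟩ := distinguished_cocone_triangle (Q.map (theta (tCN t) I))
    refine (Triangle.isZero₃_iff_isIso₁ _ hT).1 (isZero_of_subsingleton B hsep C fun j n => ?_)
    have h2 := subsingleton_of_bijective_postcomp hT ((singleFunctor A 0).obj (B j))
      (fun m => by
        have := (bijective_shift_iff (S := (singleFunctor A 0).obj (B j)) (Q.map (theta (tCN t) I)) (-m)).1
          (h j (-m))
        rwa [neg_neg] at this) (-n)
    exact @Equiv.subsingleton _ _
      ((shiftEquiv' (DerivedCategory A) (-n) n (by omega)).toAdjunction.homEquiv _ C).symm h2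
  · intro h j n
    exact (Iso.homToEquiv (asIso ((Q.map (theta (tCN t) I))⟦n⟧'))).bijective

end Core

end Groth.Agent.H1DC
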