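import Groth.Agent.H1DC.Nakayama
import Groth.Agent.H26ProEt.WC

/-!
# Generators of locally constant sheaves over weakly contractible affines
-/

set_option autoImplicit false
set_option linter.style.haveILetI false
set_option backward.isDefEq.respectTransparency false

universe u

open CategoryTheory CategoryTheory.Limits AlgebraicGeometry Opposite

namespace Groth.Agent.H1DC

open H26ProEt (pieceObj pieceHom IsPartition)

variable {Λ : Type (u + 1)} [CommRing Λ] {X : Scheme.{u}}

/-- Local generation by sections. -/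
theorem exists_local_gens {U : X.ProEt} {Q : EtModW.ModP Λ X} {M : Type (u + 1)} [AddCommGroup M] [Module Λ M]
    (e : Q.over U ≅ (constantSheaf ((Scheme.ProEt.topology X).over U) (ModuleCat.{u + 1} Λ)).obj (ModuleCat.of Λ M))
    {n : ℕ} (m : Fin n → M) (hm : Submodule.span Λ (Set.range m) = ⊤) :
    ∃ σ : Fin n → Q.obj.obj (op U), ∀ {Y : X.ProEt} (g : Y ⟶ U) (y : Q.obj.obj (op Y)),
      ∃ R ∈ Scheme.ProEt.topology X Y, ∀ ⦃Z : X.ProEt⦄ (b : Z ⟶ Y), R b →
        Q.obj.map b.op y ∈ Submodule.span Λ (Set.range fun l => Q.obj.map (b ≫ g).op (σ l)) := by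
  let J := (Scheme.ProEt.topology X).over U
  let P : (Over U)ᵒᵖ ⥤ ModuleCat.{u + 1} Λ := (Functor.const _).obj (ModuleCat.of Λ M)
  let τ : P ⟶ (Q.over U).obj := toSheafify J P ≫ e.inv.hom
  haveI : IsIso e.inv.hom := ((sheafToPresheaf _ _).mapIso e.symm).isIso_hom
  haveI : Presheaf.IsLocallySurjective J τ := inferInstance
  refine ⟨fun l => τ.app (op (Over.mk (𝟙 U))) (m l), fun {Y} g y => ?_⟩
  refine ⟨_, (GrothendieckTopology.mem_over_iff _ _).1 (Presheaf.imageSieve_mem J τ (U := op (Over.mk g)) y), ?_⟩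
  intro Z b hb
  obtain ⟨z, hz⟩ := (Sieve.overEquiv_iff (Y := Over.mk g) _ b).1 hb
  have key : ∀ v : M, τ.app (op (Over.mk (b ≫ g))) v = Q.obj.map (b ≫ g).op (τ.app (op (Over.mk (𝟙 U))) v) :=
    fun v => NatTrans.naturality_apply τ
      (Over.homMk (b ≫ g) (Category.comp_id _) : Over.mk (b ≫ g) ⟶ Over.mk (𝟙 U)).op v
  have hz' : Q.obj.map b.op y = Q.obj.map (b ≫ g).op (τ.app (op (Over.mk (𝟙 U))) z) := hz.symm.trans (key z)
  rw [hz']
  have hz2 : (z : M) ∈ Submodule.span Λ (Set.range m) := hm ▸ trivial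
  let φ : M →ₗ[Λ] Q.obj.obj (op Z) := (Q.obj.map (b ≫ g).op).hom.comp (τ.app (op (Over.mk (𝟙 U)))).hom
  have := Submodule.mem_map_of_mem (f := φ) hz2
  rwa [Submodule.map_span, ← Set.range_comp] at this

theorem exists_generators [IsAffine X] (hX : EtPBC.IsWContractible ↥(Γ(X, ⊤))) (Q : EtModW.ModP Λ X)
    (hQ : EtModW.IsFPLocConstP Λ Q) :
    ∃ (t : ℕ) (s : Fin t → Q.obj.obj (op (ProEtS.topP X))),
      ∀ {W : EtModW.ModP Λ X} (h : Q ⟶ W), (∀ l, h.hom.app (op (ProEtS.topP X)) (s l) = 0) → h = 0 := by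
  classical
  let T := ProEtS.topP X
  haveI : IsAffine T.left := ‹IsAffine X›
  have hTs : H26ProEt.Splits T := H26ProEt.splits_iff.1 hX
  obtain ⟨ι, U, hU, hM⟩ := hQ
  obtain ⟨n, W, hW, hR⟩ := H26ProEt.refines_of_splits hTs _ hU
  have hpiece : ∀ k, ∃ i, Nonempty (pieceObj T (W k) ⟶ U i) := fun k => by
    obtain ⟨_, a, _, ⟨i⟩, -⟩ := hR k
    exact ⟨i, ⟨a⟩⟩
  choose i he using hpiece
  choose M _ _ hfp e using fun k => hM (i k)
  choose t m hm using fun k => haveI := hfp k; Module.Finite.exists_fin (R := Λ) (M := M k)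
  choose σ hσ using fun k => exists_local_gens (e k).some (m k) (hm k)
  have hglue : ∀ p : Σ k, Fin (t k), ∃ s : Q.obj.obj (op T),
      Q.obj.map (pieceHom T (W p.1)).op s = Q.obj.map (he p.1).some.op (σ p.1 p.2) := by
    rintro ⟨k, l⟩
    obtain ⟨s, hs, -⟩ := hW.existsUnique_section
      ((isSheaf_iff_isSheaf_of_type _ _).1
        ((sheafCompose (Scheme.ProEt.topology X) (forget (ModuleCat.{u + 1} Λ))).obj Q).2)
      (fun k' => if hk : k' = k then hk ▸ Q.obj.map (he k).some.op (σ k l) else (0 : Q.obj.obj _))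
    exact ⟨s, (hs k).trans (by simp)⟩
  choose s hs using hglue
  let N := Fintype.card (Σ k, Fin (t k))
  let eN := (Fintype.equivFin (Σ k, Fin (t k))).symm
  refine ⟨N, fun l => s (eN l), fun {W'} h hh => ?_⟩
  have hzero : ∀ p : Σ k, Fin (t k), h.hom.app (op T) (s p) = 0 := fun p => by
    simpa using hh (eN.symm p)
  refine Sheaf.hom_ext (NatTrans.ext (funext fun Yop => ModuleCat.hom_ext (LinearMap.ext fun y => ?_)))
  obtain ⟨Y₀⟩ := Yop
  let tY : Y₀ ⟶ T := MorphismProperty.Over.homMk Y₀.hom (Category.comp_id _) trivial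
  have hsep := ((isSheaf_iff_isSheaf_of_type _ _).1
    ((sheafCompose (Scheme.ProEt.topology X) (forget (ModuleCat.{u + 1} Λ))).obj W').2)
  let S : Sieve Y₀ :=
    { arrows := fun Z b => W'.obj.map b.op (h.hom.app (op Y₀) y) = 0
      downward_closed := fun {Z Z' b} hb c => by
        show W'.obj.map (c ≫ b).op _ = 0
        rw [op_comp, Functor.map_comp_apply, hb, map_zero] }
  have hS : S ∈ Scheme.ProEt.topology X Y₀ := by
    refine (Scheme.ProEt.topology X).transitive ((Scheme.ProEt.topology X).pullback_stable tY hW.mem_topology) _ ?_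
    rintro Z b ⟨_, c, _, ⟨k⟩, hc⟩
    obtain ⟨R, hR', hR''⟩ := hσ k (c ≫ (he k).some) (Q.obj.map b.op y)
    refine (Scheme.ProEt.topology X).superset_covering (fun Z' b' hb' => ?_) hR'
    show W'.obj.map (b' ≫ b).op (h.hom.app (op Y₀) y) = 0
    rw [← NatTrans.naturality_apply, op_comp, Functor.map_comp_apply]
    have h2 : ∀ l, h.hom.app (op Z') (Q.obj.map (b' ≫ c ≫ (he k).some).op (σ k l)) = 0 := fun l => by
      rw [op_comp, op_comp, Functor.map_comp_apply, Functor.map_comp_apply, ← hs ⟨k, l⟩,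
        NatTrans.naturality_apply, NatTrans.naturality_apply, NatTrans.naturality_apply, hzero, map_zero,
        map_zero, map_zero]
    have h3 : Submodule.span Λ (Set.range fun l => Q.obj.map (b' ≫ c ≫ (he k).some).op (σ k l)) ≤
        LinearMap.ker (h.hom.app (op Z')).hom := by
      rw [Submodule.span_le]
      rintro _ ⟨l, rfl⟩
      exact h2 l
    exact h3 (hR'' b' hb')
  exact (hsep S hS).isSeparatedFor.ext fun Z b hb => by
    refine hb.trans ?_
    exact (map_zero (W'.obj.map b.op).hom).symm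

end Groth.Agent.H1DC
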