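import Groth.Agent.H1DC.Props

/-!
# Nakayama for derived complete sheaves; torsion sheaves are derived complete
-/

set_option autoImplicit false
set_option linter.style.haveILetI false
set_option backward.isDefEq.respectTransparency false

universe u v w

open CategoryTheory CategoryTheory.Limits AlgebraicGeometry Opposite

namespace Groth.Agent.H1DC

theorem isIso_theta_of_pow_eq_zero {A : Type w} [Category.{v} A] [Abelian A] [HasCountableProducts A]
    (t : 𝟭 A ⟶ 𝟭 A) (X : A) (m : ℕ) (h : (End.of (t.app X : X ⟶ X)) ^ m = 0) : IsIso (theta t X) := by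
  let Sh : End (∏ᶜ fun _ : ℕ => X) := End.of (Pi.lift fun n => Pi.π (fun _ : ℕ => X) (n + 1) ≫ t.app X)
  have hθ : End.of (theta t X) = Sh - 1 := Pi.hom_ext _ _ fun n => by
    show theta t X ≫ Pi.π _ n = (Sh.asHom - 𝟙 _) ≫ Pi.π _ n
    simp [Sh, theta]
  have hp : ∀ k n, (Sh ^ k).asHom ≫ Pi.π (fun _ : ℕ => X) n =
      Pi.π (fun _ : ℕ => X) (n + k) ≫ ((End.of (t.app X : X ⟶ X)) ^ k).asHom := by
    intro k
    induction k with
    | zero => intro n; simp [pow_zero, End.one_def]
    | succ k ih =>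
      intro n
      have e1 : (Sh ^ (k + 1)).asHom = (Sh ^ k).asHom ≫ Sh.asHom := by rw [pow_succ']; rfl
      have e2 : ((End.of (t.app X : X ⟶ X)) ^ (k + 1)).asHom =
          ((End.of (t.app X : X ⟶ X)) ^ k).asHom ≫ (t.app X : X ⟶ X) := by rw [pow_succ']; rfl
      have e3 : Sh.asHom ≫ Pi.π (fun _ : ℕ => X) n = Pi.π (fun _ : ℕ => X) (n + 1) ≫ t.app X := by simp [Sh]
      rw [e1, e2, Category.assoc, e3, ← Category.assoc]
      exact (congrArg (· ≫ (t.app X : X ⟶ X)) (ih (n + 1))).trans ((Category.assoc _ _ _).trans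
        (by rw [show n + 1 + k = n + (k + 1) by omega]))
  have hnil : IsNilpotent Sh := ⟨m, Pi.hom_ext _ _ fun n => by
    refine (hp m n).trans ?_
    rw [h]
    exact (comp_zero).trans zero_comp.symm⟩
  have hu : IsUnit (End.of (theta t X)) := hθ ▸ hnil.isUnit_sub_one
  exact (isUnit_iff_isIso _).1 hu

variable {Λ : Type (u + 1)} [CommRing Λ] {X : Scheme.{u}}

theorem isIso_theta_const (f : Λ) (M : ModuleCat.{u + 1} Λ) (m : ℕ) (hM : ∀ x : M, f ^ m • x = 0) :
    IsIso (theta (smulNat (X := X) f) ((constantSheaf (Scheme.ProEt.topology X) (ModuleCat.{u + 1} Λ)).obj M)) := by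
  let L := constantSheaf (Scheme.ProEt.topology X) (ModuleCat.{u + 1} Λ)
  refine isIso_theta_of_pow_eq_zero _ _ m ?_
  have hL : End.of ((smulNat (X := X) f).app (L.obj M) : L.obj M ⟶ L.obj M) =
      L.mapEnd M (End.of ((smulModNat f).app M : M ⟶ M)) :=
    (presheafToSheaf_smul f ((Functor.const _).obj M)).symm
  have h0 : (End.of ((smulModNat f).app M : M ⟶ M)) ^ m = 0 := by
    have key : ∀ k (x : M), ((End.of ((smulModNat f).app M : M ⟶ M)) ^ k).asHom x = f ^ k • x := by
      intro k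
      induction k with
      | zero => intro x; simp [pow_zero, End.one_def]
      | succ k ih =>
        intro x
        rw [pow_succ']
        show f • (((End.of ((smulModNat f).app M : M ⟶ M)) ^ k).asHom x) = _
        rw [ih, smul_smul, ← pow_succ']
    exact ModuleCat.hom_ext (LinearMap.ext fun x => (key m x).trans (hM x))
  rw [hL]
  refine ((L.mapEnd M).map_pow _ m).symm.trans (Eq.trans (congrArg (L.mapEnd M) h0) ?_)
  haveI : (constantSheaf (Scheme.ProEt.topology X) (ModuleCat.{u + 1} Λ)).Additive :=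
    haveI := preservesBinaryBiproducts_of_preservesBinaryCoproducts L
    Functor.additive_of_preservesBinaryBiproducts L
  exact L.map_zero M M

theorem isZero_of_epi_of_isIso_theta (f : Λ) (F : EtModW.ModP Λ X) [Epi (ProEtDC.smulHom Λ F f)]
    (h : IsIso (theta (smulNat f) F)) : IsZero F := by
  suffices Epi (0 : F ⟶ F) from IsZero.of_epi_zero F F
  refine epi_of_surjective _ fun V _ hV x => ?_
  suffices x = 0 from ⟨x, this.symm⟩
  have hs := surjective_of_epi hV (ProEtDC.smulHom Λ F f)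
  choose g hg using hs
  let y : ℕ → F.obj.obj (op V) := fun n => Nat.rec x (fun _ p => g p) n
  let E : EtModW.ModP Λ X ⥤ ModuleCat.{u + 1} Λ :=
    sheafToPresheaf _ _ ⋙ (evaluation _ _).obj (op V)
  let hl := isLimitOfPreserves (E ⋙ forget (ModuleCat.{u + 1} Λ)) (limit.isLimit (Discrete.functor fun _ : ℕ => F))
  let σ : (Discrete.functor (fun _ : ℕ => F) ⋙ E ⋙ forget (ModuleCat.{u + 1} Λ)).sections := ⟨fun j => y j.as, by
    rintro ⟨i⟩ ⟨j⟩ a
    obtain rfl := Discrete.eq_of_hom a
    rw [show a = 𝟙 _ from Subsingleton.elim _ _, CategoryTheory.Functor.map_id]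
    rfl⟩
  let z : (∏ᶜ fun _ : ℕ => F).obj.obj (op V) := (Types.isLimitEquivSections hl).symm σ
  have hz : ∀ n, (Pi.π (fun _ : ℕ => F) n).hom.app (op V) z = y n := fun n =>
    Types.isLimitEquivSections_symm_apply hl σ ⟨n⟩
  have hθ : (theta (smulNat f) F).hom.app (op V) z = 0 := by
    apply (Types.isLimitEquivSections hl).injective
    refine Subtype.ext (funext fun j => ?_)
    show (Pi.π (fun _ : ℕ => F) j.as).hom.app (op V) ((theta (smulNat f) F).hom.app (op V) z) =
      (Pi.π (fun _ : ℕ => F) j.as).hom.app (op V) (0 : (∏ᶜ fun _ : ℕ => F).obj.obj (op V))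
    rw [map_zero]
    refine (ConcreteCategory.congr_hom (congrArg (fun q : ((∏ᶜ fun _ : ℕ => F) ⟶ F) => q.hom.app (op V))
      (Pi.lift_π (fun n => ((Pi.π (fun _ : ℕ => F) (n + 1) ≫ (smulNat f).app F : (∏ᶜ fun _ : ℕ => F) ⟶ F) -
        Pi.π (fun _ : ℕ => F) n)) j.as)) z).trans ?_
    show (ProEtDC.smulHom Λ F f).hom.app (op V) ((Pi.π (fun _ : ℕ => F) (j.as + 1)).hom.app (op V) z) -
      (Pi.π (fun _ : ℕ => F) j.as).hom.app (op V) z = 0
    rw [hz, hz, sub_eq_zero]
    exact hg _
  haveI : IsIso ((theta (smulNat f) F).hom.app (op V)) := inferInstanceAs (IsIso (E.map (theta (smulNat f) F)))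
  have hz0 : z = 0 := (ConcreteCategory.bijective_of_isIso ((theta (smulNat f) F).hom.app (op V))).1
    (hθ.trans (map_zero _).symm)
  have h0 := hz 0
  rw [hz0, map_zero] at h0
  exact h0.symm

theorem isZero_of_gens : ∀ {r : ℕ} (a : Fin r → Λ) (F : EtModW.ModP Λ X),
    (∀ k, IsIso (theta (smulNat (a k)) F)) → ProEtDC.ModGensIsZero Λ a F → IsZero F := by
  intro r
  induction r with
  | zero =>
    intro a F _ h0
    haveI : Epi (biproduct.desc fun k : Fin 0 => ProEtDC.smulHom Λ F (a k)) := h0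
    rw [IsZero.iff_id_eq_zero, ← cancel_epi (biproduct.desc fun k : Fin 0 => ProEtDC.smulHom Λ F (a k))]
    exact biproduct.hom_ext' _ _ fun k => k.elim0
  | succ r ih =>
    intro a F hF h0
    haveI : Epi (biproduct.desc fun k : Fin (r + 1) => ProEtDC.smulHom Λ F (a k)) := h0
    let π := cokernel.π (ProEtDC.smulHom Λ F (a 0))
    have hz : IsZero (cokernel (ProEtDC.smulHom Λ F (a 0))) := by
      refine ih (fun k => a k.succ) _ (fun k => isIso_theta_cokernel _ _ (hF _) (hF _))
        (Preadditive.epi_of_cancel_zero _ fun {W} g hg => ?_)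
      have hk : ∀ k : Fin r, ProEtDC.smulHom Λ (cokernel (ProEtDC.smulHom Λ F (a 0))) (a k.succ) ≫ g = 0 :=
        fun k => by simpa using congrArg (biproduct.ι (fun _ : Fin r => cokernel (ProEtDC.smulHom Λ F (a 0))) k ≫ ·) hg
      rw [← cancel_epi π, comp_zero, ← cancel_epi (biproduct.desc fun k : Fin (r + 1) => ProEtDC.smulHom Λ F (a k)),
        comp_zero]
      refine biproduct.hom_ext' _ _ fun k => ?_
      rw [biproduct.ι_desc_assoc, comp_zero]
      refine Fin.cases ?_ (fun k => ?_) k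
      · rw [cokernel.condition_assoc, zero_comp]
      · have hn : ProEtDC.smulHom Λ F (a k.succ) ≫ π =
            π ≫ ProEtDC.smulHom Λ (cokernel (ProEtDC.smulHom Λ F (a 0))) (a k.succ) :=
          ((smulNat (a k.succ)).naturality π).symm
        rw [reassoc_of% hn, hk, comp_zero]
    haveI : Epi (ProEtDC.smulHom Λ F (a 0)) :=
      Preadditive.epi_of_cokernel_zero (hz.eq_of_tgt _ _)
    exact isZero_of_epi_of_isIso_theta (a 0) F (hF 0)

end Groth.Agent.H1DC
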