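import Groth.Agent.H1DC.Extension
import Groth.Agent.H1DC.Generation
import Groth.Agent.S0776

/-!
# Derived complete sheaves with finitely presented locally constant reduction
-/

set_option autoImplicit false
set_option linter.style.haveILetI false
set_option backward.isDefEq.respectTransparency false

universe u

open CategoryTheory CategoryTheory.Limits AlgebraicGeometry Opposite

namespace Groth.Agent.H1DC

open PowerTower

variable {Λ : Type (u + 1)} [CommRing Λ] {X : Scheme.{u}}

theorem isIso_theta_biproduct (f : Λ) {t : ℕ} (G : Fin t → EtModW.ModP Λ X)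
    (h : ∀ l, IsIso (theta (smulNat f) (G l))) : IsIso (theta (smulNat f) (⨁ G)) := by
  rw [isIso_theta_iff_of_iso (smulNat f) (biproduct.isoProduct G)]
  haveI : (lim : (Discrete ℕ ⥤ EtModW.ModP Λ X) ⥤ EtModW.ModP Λ X).IsRightAdjoint := constLimAdj.isRightAdjoint
  haveI : PreservesLimit (Discrete.functor G) (powF (EtModW.ModP Λ X)) := comp_preservesLimit _ _
  exact isIso_theta_limit _ fun j => h j.as

theorem exists_epi_lambdaHat [IsNoetherianRing Λ] [IsAffine X] (hX : EtPBC.IsWContractible ↥(Γ(X, ⊤))) {r : ℕ}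
    (a : Fin r → Λ) (F : EtModW.ModP Λ X) (hF : ProEtDC.IsDCSheaf Λ (Ia a) F)
    (hq : EtModW.IsFPLocConstP Λ (cokernel (ProEtDC.gensMap Λ a F))) :
    ∃ (t : ℕ) (φ : (⨁ fun _ : Fin t => ProEtDC.lambdaHat Λ X (Ia a)) ⟶ F), Epi φ := by
  let T := ProEtS.topP X
  let πQ : F ⟶ cokernel (ProEtDC.gensMap Λ a F) := cokernel.π _
  haveI : IsAffine T.left := ‹IsAffine X›
  have hT : ProEtS.IsWC T := H26ProEt.isWC_of_refines (H26ProEt.refines_of_splits (H26ProEt.splits_iff.1 hX))
  obtain ⟨t, s, hs⟩ := exists_generators hX _ hq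
  choose s' hs' using fun l => surjective_of_epi hT πQ (s l)
  let hterm : IsTerminal T := IsTerminal.ofUniqueHom
    (fun Z => MorphismProperty.Over.homMk Z.hom (Category.comp_id _) trivial)
    fun Z m => MorphismProperty.Over.Hom.ext ((Category.comp_id m.left).symm.trans (MorphismProperty.Over.w m))
  let adj := constantSheafAdj (Scheme.ProEt.topology X) (ModuleCat.{u + 1} Λ) hterm
  let st : Fin t → ((constP X).obj (ModuleCat.of Λ Λ) ⟶ F) := fun l =>
    (adj.homEquiv _ _).symm (ModuleCat.ofHom (LinearMap.toSpanSingleton Λ _ (s' l)))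
  have hst : ∀ l, (st l).hom.app (op T) ((adj.unit.app (ModuleCat.of Λ Λ)) (1 : Λ)) = s' l := fun l => by
    have h1 := (adj.homEquiv _ _).apply_symm_apply (ModuleCat.ofHom (LinearMap.toSpanSingleton Λ _ (s' l)))
    rw [Adjunction.homEquiv_unit] at h1
    exact (ConcreteCategory.congr_hom h1 (1 : Λ)).trans (one_smul Λ _)
  have hFa : ∀ k, IsIso (theta (smulNat (a k)) F) := fun k =>
    (isDCSheaf_iff _ F).1 hF (a k) (Ideal.subset_span (Set.mem_range_self k))
  choose g hg using fun l => exists_extension a F hFa (st l)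
  let φ : (⨁ fun _ : Fin t => ProEtDC.lambdaHat Λ X (Ia a)) ⟶ F := biproduct.desc g
  refine ⟨t, φ, Preadditive.epi_of_cokernel_zero ((isZero_of_gens a (cokernel φ) (fun k => ?_) ?_).eq_of_tgt _ _)⟩
  · refine isIso_theta_cokernel _ φ (isIso_theta_biproduct _ _ fun l => ?_) (hFa k)
    exact (isDCSheaf_iff _ _).1 (Groth.Agent.S0776.result X Λ (Ia a)) (a k)
      (Ideal.subset_span (Set.mem_range_self k))
  · refine Preadditive.epi_of_cancel_zero _ fun {W} h hh => ?_
    have hk : ∀ k, ProEtDC.smulHom Λ (cokernel φ) (a k) ≫ h = 0 := fun k => by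
      simpa using congrArg (biproduct.ι (fun _ : Fin r => cokernel φ) k ≫ ·) hh
    have h0 : ProEtDC.gensMap Λ a F ≫ cokernel.π φ ≫ h = 0 := biproduct.hom_ext' _ _ fun k => by
      rw [biproduct.ι_desc_assoc, comp_zero]
      have hn : ProEtDC.smulHom Λ F (a k) ≫ cokernel.π φ = cokernel.π φ ≫ ProEtDC.smulHom Λ (cokernel φ) (a k) :=
        ((smulNat (a k)).naturality (cokernel.π φ)).symm
      rw [reassoc_of% hn, hk, comp_zero]
    have hQ : cokernel.desc _ (cokernel.π φ ≫ h) h0 = 0 := hs _ fun l => by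
      rw [← hs' l]
      show ((πQ ≫ cokernel.desc _ (cokernel.π φ ≫ h) h0).hom.app (op T)) (s' l) = 0
      rw [cokernel.π_desc, ← hst l]
      have e0 : st l ≫ cokernel.π φ ≫ h = 0 := by
        have : g l ≫ cokernel.π φ = 0 := by
          rw [← biproduct.ι_desc g l, Category.assoc, cokernel.condition, comp_zero]
        rw [← hg l, Category.assoc, reassoc_of% this, zero_comp, comp_zero]
      exact ConcreteCategory.congr_hom (congrArg (fun q : ((constP X).obj (ModuleCat.of Λ Λ) ⟶ W) =>
        q.hom.app (op T)) e0) _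
    rw [← cancel_epi (cokernel.π φ), comp_zero, ← cokernel.π_desc (ProEtDC.gensMap Λ a F) (cokernel.π φ ≫ h) h0,
      hQ, comp_zero]

end Groth.Agent.H1DC
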