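import Groth.Agent.H1DC.PowerSeries

/-!
# Extension of maps to the completed constant sheaf
-/

set_option autoImplicit false
set_option linter.style.haveILetI false
set_option backward.isDefEq.respectTransparency false

universe u

open CategoryTheory CategoryTheory.Limits AlgebraicGeometry Opposite MvPolynomial

namespace Groth.Agent.H1DC

open PowerTower

variable {Λ : Type (u + 1)} [CommRing Λ] {X : Scheme.{u}} {r : ℕ} (a : Fin r → Λ)

/-- The cone of the unit. -/
noncomputable def etaCone : Cone (ProEtDC.quotTower Λ (Ia a) ⋙ constP X) where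
  pt := (constP X).obj (ModuleCat.of Λ Λ)
  π :=
    { app := fun n => (constP X).map (ModuleCat.ofHom (Submodule.mkQ (Ia a ^ n.unop • ⊤ : Submodule Λ Λ)) :
        ModuleCat.of Λ Λ ⟶ (ProEtDC.quotTower Λ (Ia a)).obj n)
      naturality := fun m n h => by
        refine (Category.id_comp _).trans ?_
        show _ = (constP X).map _ ≫ (constP X).map ((ProEtDC.quotTower Λ (Ia a)).map h)
        rw [← Functor.map_comp]
        rfl }

/-- The unit of the completed constant sheaf. -/
noncomputable def etaHat : (constP X).obj (ModuleCat.of Λ Λ) ⟶ ProEtDC.lambdaHat Λ X (Ia a) :=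
  limit.lift _ (etaCone a)

variable (r) in
/-- The cone of one. -/
noncomputable def oneCone : Cone (tower Λ r ⋙ constP X) where
  pt := (constP X).obj (ModuleCat.of Λ Λ)
  π :=
    { app := fun n => (constP X).map (ModuleCat.ofHom (LinearMap.toSpanSingleton Λ _ 1) :
        ModuleCat.of Λ Λ ⟶ (tower Λ r).obj n)
      naturality := fun m n h => by
        refine (Category.id_comp _).trans ?_
        show _ = (constP X).map _ ≫ (constP X).map ((tower Λ r).map h)
        rw [← Functor.map_comp]
        rfl }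

variable (r) in
/-- One, as a map into the completed polynomial sheaf. -/
noncomputable def oneInf : (constP X).obj (ModuleCat.of Λ Λ) ⟶ pInf (Λ := Λ) (X := X) (r := r) :=
  limit.lift _ (oneCone r)

theorem oneInf_π (n : ℕ) : oneInf r ≫ limit.π (tower Λ r ⋙ constP X) (op n) =
    (constP X).map (ModuleCat.ofHom (LinearMap.toSpanSingleton Λ _ 1) : ModuleCat.of Λ Λ ⟶ P Λ r n) :=
  limit.lift_π _ _

theorem oneInf_evInf : oneInf r ≫ evInf X a = etaHat a := limit.hom_ext fun n => by
  rw [evInf, Category.assoc, limMap_π, ← Category.assoc, oneInf, limit.lift_π]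
  show (constP X).map _ ≫ (constP X).map ((ev a).app n) = etaHat a ≫ _
  rw [etaHat, limit.lift_π, ← Functor.map_comp]
  show _ = (constP X).map _
  congr 1
  refine ModuleCat.hom_ext (LinearMap.ext fun c => ?_)
  show evalLin a n.unop (c • (1 : MvPolynomial (Fin r) Λ ⧸ mv Λ r ^ n.unop)) = Submodule.Quotient.mk c
  rw [map_smul, show (1 : MvPolynomial (Fin r) Λ ⧸ mv Λ r ^ n.unop) = Ideal.Quotient.mk _ 1 from rfl,
    evalLin_mk, map_one, ← Submodule.Quotient.mk_smul]
  exact congrArg _ (mul_one c)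

/-- The level of a multi-index. -/
noncomputable def lvl (ν : Fin r → ℕ) : ℕ := Finsupp.degree (Finsupp.equivFunOnFinite.symm ν) + 1

/-- Coefficients of the completed polynomial sheaf. -/
noncomputable def coefInf (ν : Fin r → ℕ) : pInf (Λ := Λ) (X := X) (r := r) ⟶ (constP X).obj (ModuleCat.of Λ Λ) :=
  limit.π (tower Λ r ⋙ constP X) (op (lvl ν)) ≫
    (constP X).map (coef (Finsupp.equivFunOnFinite.symm ν) (lvl ν) (Nat.lt_succ_self _))

theorem π_coef (ν : Fin r →₀ ℕ) {n m : ℕ} (hn : Finsupp.degree ν < n) (hm : Finsupp.degree ν < m) (h : n ≤ m) :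
    limit.π (tower Λ r ⋙ constP X) (op m) ≫ (constP X).map (coef ν m hm) =
      limit.π (tower Λ r ⋙ constP X) (op n) ≫ (constP X).map (coef ν n hn) := by
  rw [← limit.w (tower Λ r ⋙ constP X) (homOfLE h).op, Category.assoc]
  congr 1
  show _ = (constP X).map (tr h) ≫ _
  rw [← Functor.map_comp]
  congr 1
  refine ModuleCat.hom_ext (LinearMap.ext fun x => ?_)
  obtain ⟨f, rfl⟩ := Ideal.Quotient.mk_surjective x
  rfl

theorem oneInf_coefInf (ν : Fin r → ℕ) :
    oneInf (Λ := Λ) (X := X) r ≫ coefInf ν = if ν = 0 then 𝟙 _ else 0 := by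
  haveI := constP_additive (Λ := Λ) (X := X)
  rw [coefInf, ← Category.assoc, oneInf_π, ← Functor.map_comp]
  by_cases hν : ν = 0
  · subst hν
    rw [if_pos rfl, ← CategoryTheory.Functor.map_id]
    congr 1
    refine ModuleCat.hom_ext (LinearMap.ext fun c => ?_)
    show coef (Finsupp.equivFunOnFinite.symm (0 : Fin r → ℕ)) (lvl (0 : Fin r → ℕ)) (Nat.lt_succ_self _)
      (c • Ideal.Quotient.mk _ (1 : MvPolynomial (Fin r) Λ)) = c
    rw [map_smul, coef_mk, coeff_one, if_pos (show (0 : Fin r →₀ ℕ) = Finsupp.equivFunOnFinite.symm 0 from Finsupp.ext fun k => rfl)]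
    exact mul_one c
  · rw [if_neg hν, ← (constP X).map_zero]
    congr 1
    refine ModuleCat.hom_ext (LinearMap.ext fun c => ?_)
    show coef (Finsupp.equivFunOnFinite.symm ν) (lvl ν) (Nat.lt_succ_self _)
      (c • Ideal.Quotient.mk _ (1 : MvPolynomial (Fin r) Λ)) = 0
    rw [map_smul, coef_mk, coeff_one, if_neg, smul_zero]
    intro he
    exact hν (funext fun i => (DFunLike.congr_fun he i).symm)

/-- The shifted coefficient. -/
noncomputable def shiftCoef (i : Fin r) (ν : Fin r → ℕ) :
    pInf (Λ := Λ) (X := X) (r := r) ⟶ (constP X).obj (ModuleCat.of Λ Λ) :=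
  if ν i = 0 then 0 else coefInf (Function.update ν i (ν i - 1))

theorem DInf_coefInf (i : Fin r) (ν : Fin r → ℕ) :
    DInf X a i ≫ coefInf ν = shiftCoef i ν - coefInf ν ≫ ProEtDC.smulHom Λ _ (a i) := by
  haveI := constP_additive (Λ := Λ) (X := X)
  let m := Finsupp.equivFunOnFinite.symm ν
  have h1 : DInf X a i ≫ coefInf ν =
      limit.π (tower Λ r ⋙ constP X) (op (lvl ν)) ≫
        (constP X).map ((D a i).app (op (lvl ν)) ≫ coef m (lvl ν) (Nat.lt_succ_self _)) := by
    rw [coefInf, DInf, limMap_π_assoc, Functor.map_comp]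
    rfl
  have hsm : ProEtDC.smulHom Λ ((constP X).obj (ModuleCat.of Λ Λ)) (a i) =
      (constP X).map ((smulModNat (a i)).app (ModuleCat.of Λ Λ)) :=
    (presheafToSheaf_smul (a i) ((Functor.const _).obj (ModuleCat.of Λ Λ))).symm
  have h3 : coefInf ν ≫ (constP X).map ((smulModNat (a i)).app (ModuleCat.of Λ Λ)) =
      limit.π (tower Λ r ⋙ constP X) (op (lvl ν)) ≫
        (constP X).map (coef m (lvl ν) (Nat.lt_succ_self _) ≫ (smulModNat (a i)).app (ModuleCat.of Λ Λ)) := by
    rw [coefInf, Category.assoc, Functor.map_comp]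
  by_cases hi : ν i = 0
  · rw [h1, shiftCoef, if_pos hi, zero_sub, hsm, h3, ← Preadditive.comp_neg, ← Functor.map_neg]
    congr 2
    refine ModuleCat.hom_ext (LinearMap.ext fun x => ?_)
    obtain ⟨f, rfl⟩ := Ideal.Quotient.mk_surjective x
    show coef m (lvl ν) (Nat.lt_succ_self _) (Ideal.Quotient.mk _ ((MvPolynomial.X i - C (a i)) * f)) = -(a i • coef m (lvl ν) (Nat.lt_succ_self _) (Ideal.Quotient.mk _ f))
    rw [coef_mk, coef_mk, sub_mul, coeff_sub, coeff_C_mul, coeff_X_mul', if_neg (by simp [m, hi]), zero_sub,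
      smul_eq_mul]
  · let m' := Finsupp.equivFunOnFinite.symm (Function.update ν i (ν i - 1))
    have hm : m' = m - Finsupp.single i 1 := Finsupp.ext fun k => by
      by_cases hk : k = i
      · subst hk; simp [m', m]
      · simp [m', m, hk, Ne.symm hk]
    have hle : lvl (Function.update ν i (ν i - 1)) ≤ lvl ν := by
      refine Nat.add_le_add_right ?_ 1
      show Finsupp.degree m' ≤ Finsupp.degree m
      rw [hm]
      exact Finsupp.degree_mono tsub_le_self
    rw [h1, shiftCoef, if_neg hi, hsm, h3,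
      show coefInf (Λ := Λ) (X := X) (Function.update ν i (ν i - 1)) =
        limit.π (tower Λ r ⋙ constP X) (op (lvl ν)) ≫ (constP X).map
          (coef m' (lvl ν) ((Nat.lt_succ_self _).trans_le hle)) from (π_coef m' _ _ hle).symm,
      ← Preadditive.comp_sub, ← Functor.map_sub]
    congr 2
    refine ModuleCat.hom_ext (LinearMap.ext fun x => ?_)
    obtain ⟨f, rfl⟩ := Ideal.Quotient.mk_surjective x
    show coef m (lvl ν) (Nat.lt_succ_self _) (Ideal.Quotient.mk _ ((MvPolynomial.X i - C (a i)) * f)) =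
      coef m' (lvl ν) ((Nat.lt_succ_self _).trans_le hle) (Ideal.Quotient.mk _ f) - a i • coef m (lvl ν) (Nat.lt_succ_self _) (Ideal.Quotient.mk _ f)
    rw [coef_mk, coef_mk, coef_mk, sub_mul, coeff_sub, coeff_C_mul, coeff_X_mul', if_pos (by simp [m, hi]),
      smul_eq_mul, hm]

theorem exists_extension [IsNoetherianRing Λ] (F : EtModW.ModP Λ X) (hF : ∀ k, IsIso (theta (smulNat (a k)) F))
    (s : (constP X).obj (ModuleCat.of Λ Λ) ⟶ F) :
    ∃ g : ProEtDC.lambdaHat Λ X (Ia a) ⟶ F, etaHat a ≫ g = s := by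
  let G : pInf (Λ := Λ) (X := X) (r := r) ⟶ F := multiSum a hF fun ν => coefInf ν ≫ s
  have hG : ∀ i, DInf X a i ≫ G = 0 := fun i => by
    have h1 : DInf X a i ≫ G = multiSum a hF (fun ν => shiftCoef i ν ≫ s) -
        multiSum a hF (fun ν => (coefInf ν ≫ s) ≫ ProEtDC.smulHom Λ F (a i)) := by
      rw [← multiSum_comp, ← multiSum_sub]
      refine congrArg _ (funext fun ν => ?_)
      rw [← Category.assoc, DInf_coefInf, Preadditive.sub_comp, Category.assoc, Category.assoc]
      congr 2
      exact ((smulNat (a i)).naturality s).symm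
    rw [h1, multiSum_postcomp, sub_eq_zero]
    refine multiSum_shift a hF _ _ i (fun v hv => ?_) fun v => ?_
    · rw [shiftCoef, if_pos hv, zero_comp]
    · rw [shiftCoef, if_neg (by simp)]
      simp
  haveI : Epi (evInf X a) := epi_of_surjective _ fun V _ hV => evInf_surjective a V hV
  have hk : kernel.ι (evInf X a) ≫ G = 0 := by
    suffices Mono (kernel.ι (kernel.ι (evInf X a) ≫ G)) ∧ Epi (kernel.ι (kernel.ι (evInf X a) ≫ G)) by
      haveI := this.2
      rw [← cancel_epi (kernel.ι (kernel.ι (evInf X a) ≫ G)), kernel.condition, comp_zero]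
    refine ⟨inferInstance, epi_of_surjective _ fun V _ hV x => ?_⟩
    let E : EtModW.ModP Λ X ⥤ ModuleCat.{u + 1} Λ := sheafToPresheaf _ _ ⋙ (evaluation _ _).obj (op V)
    haveI : E.PreservesZeroMorphisms := ⟨fun _ _ => rfl⟩
    have hx : (evInf X a).hom.app (op V) ((kernel.ι (evInf X a)).hom.app (op V) x) = 0 :=
      ConcreteCategory.congr_hom (congrArg (fun q : (kernel (evInf X a) ⟶ ProEtDC.lambdaHat Λ X (Ia a)) =>
        q.hom.app (op V)) (kernel.condition (evInf X a))) x
    obtain ⟨h, hh⟩ := exists_sum_DInf_eq a V hV _ hx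
    have h0 : (kernel.ι (evInf X a) ≫ G).hom.app (op V) x = 0 := by
      show G.hom.app (op V) ((kernel.ι (evInf X a)).hom.app (op V) x) = 0
      rw [← hh, map_sum]
      refine Finset.sum_eq_zero fun i _ => ?_
      exact ConcreteCategory.congr_hom (congrArg (fun q : (pInf (Λ := Λ) (X := X) (r := r) ⟶ F) =>
        q.hom.app (op V)) (hG i)) (h i)
    haveI : PreservesLimit (parallelPair (kernel.ι (evInf X a) ≫ G) 0) E := inferInstance
    have hl : IsLimit ((KernelFork.ofι _ (kernel.condition (kernel.ι (evInf X a) ≫ G))).map E) :=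
      KernelFork.mapIsLimit _ (kernelIsKernel _) E
    obtain ⟨l, hl'⟩ := KernelFork.IsLimit.lift' hl
      (ModuleCat.ofHom (LinearMap.toSpanSingleton Λ _ x) : ModuleCat.of Λ Λ ⟶ E.obj (kernel (evInf X a)))
      (ModuleCat.hom_ext (LinearMap.ext fun c => by
        show (kernel.ι (evInf X a) ≫ G).hom.app (op V) (c • x) = 0
        rw [map_smul, h0, smul_zero]))
    exact ⟨l (1 : Λ), (ConcreteCategory.congr_hom hl' (1 : Λ)).trans (one_smul Λ x)⟩
  obtain ⟨g, hg⟩ : ∃ g, evInf X a ≫ g = G :=
    ⟨_, (ShortComplex.exact_of_f_is_kernel (ShortComplex.mk _ _ (kernel.condition (evInf X a)))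
      (kernelIsKernel _)).g_desc G hk⟩
  refine ⟨g, ?_⟩
  rw [← oneInf_evInf, Category.assoc, hg, ← multiSum_comp]
  refine multiSum_delta a hF _ s ?_ fun v hv => ?_
  · rw [← Category.assoc, oneInf_coefInf, if_pos rfl, Category.id_comp]
  · rw [← Category.assoc, oneInf_coefInf, if_neg hv, zero_comp]

end Groth.Agent.H1DC
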