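import Groth.Prelude.Def_ProEtDC
import Mathlib.RingTheory.MvPolynomial.Ideal
import Mathlib.RingTheory.Filtration
import Mathlib.RingTheory.Polynomial.Basic

/-!
# Truncated polynomial rings presenting the quotients by powers of an ideal
-/

set_option autoImplicit false
set_option linter.style.haveILetI false
set_option backward.isDefEq.respectTransparency false

universe u

open CategoryTheory CategoryTheory.Limits Opposite MvPolynomial

namespace Groth.Agent.H1DC.PowerTower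

variable {Λ : Type (u + 1)} [CommRing Λ] {r : ℕ}

variable (Λ r) in
/-- The ideal of the variables. -/
noncomputable abbrev mv : Ideal (MvPolynomial (Fin r) Λ) := idealOfVars (Fin r) Λ

variable (a : Fin r → Λ)

/-- The ideal generated by the parameters. -/
abbrev Ia : Ideal Λ := Ideal.span (Set.range a)

theorem map_mv : (mv Λ r).map (aeval (R := Λ) a) = Ia a := by
  rw [mv, idealOfVars, Ideal.map_span, ← Set.range_comp]
  congr 1
  ext x
  simp

theorem mem_span_X_sub_C (f : MvPolynomial (Fin r) Λ) :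
    f - C (aeval a f) ∈ Ideal.span (Set.range fun i => X i - C (a i)) := by
  induction f using MvPolynomial.induction_on with
  | C c => simp
  | add p q hp hq =>
    rw [map_add, map_add, show p + q - (C (aeval a p) + C (aeval a q)) =
      (p - C (aeval a p)) + (q - C (aeval a q)) by ring]
    exact Ideal.add_mem _ hp hq
  | mul_X p i hp =>
    rw [map_mul, aeval_X, map_mul, show p * X i - C (aeval a p) * C (a i) =
      X i * (p - C (aeval a p)) + C (aeval a p) * (X i - C (a i)) by ring]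
    exact Ideal.add_mem _ (Ideal.mul_mem_left _ _ hp)
      (Ideal.mul_mem_left _ _ (Ideal.subset_span ⟨i, rfl⟩))

variable (Λ r) in
/-- The truncations. -/
noncomputable abbrev P (n : ℕ) : ModuleCat.{u + 1} Λ := ModuleCat.of Λ (MvPolynomial (Fin r) Λ ⧸ mv Λ r ^ n)

/-- The transition maps. -/
noncomputable def tr {m n : ℕ} (h : n ≤ m) : P Λ r m ⟶ P Λ r n :=
  ModuleCat.ofHom (Ideal.Quotient.factorₐ Λ (Ideal.pow_le_pow_right h : mv Λ r ^ m ≤ mv Λ r ^ n)).toLinearMap

theorem tr_mk {m n : ℕ} (h : n ≤ m) (f : MvPolynomial (Fin r) Λ) :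
    (tr (Λ := Λ) h) (Ideal.Quotient.mk _ f) = Ideal.Quotient.mk _ f := rfl

variable (Λ r) in
/-- The tower of truncations. -/
noncomputable def tower : ℕᵒᵖ ⥤ ModuleCat.{u + 1} Λ where
  obj n := P Λ r n.unop
  map h := tr (leOfHom h.unop)
  map_id n := ModuleCat.hom_ext (LinearMap.ext fun x => by
    obtain ⟨f, rfl⟩ := Ideal.Quotient.mk_surjective x; rfl)
  map_comp g h := ModuleCat.hom_ext (LinearMap.ext fun x => by
    obtain ⟨f, rfl⟩ := Ideal.Quotient.mk_surjective x; rfl)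

/-- Multiplication by a polynomial. -/
noncomputable def mulHom (g : MvPolynomial (Fin r) Λ) : tower Λ r ⟶ tower Λ r where
  app n := ModuleCat.ofHom (LinearMap.mulLeft Λ (Ideal.Quotient.mk (mv Λ r ^ n.unop) g))
  naturality m n h := ModuleCat.hom_ext (LinearMap.ext fun x => by
    obtain ⟨f, rfl⟩ := Ideal.Quotient.mk_surjective x; rfl)

/-- The relations. -/
noncomputable def D (i : Fin r) : tower Λ r ⟶ tower Λ r := mulHom (X i - C (a i))

/-- Evaluation at the parameters. -/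
noncomputable def evalLin (n : ℕ) :
    (MvPolynomial (Fin r) Λ ⧸ mv Λ r ^ n) →ₗ[Λ] Λ ⧸ (Ia a ^ n • ⊤ : Submodule Λ Λ) :=
  Submodule.liftQ ((mv Λ r ^ n).restrictScalars Λ)
    ((Submodule.mkQ _).comp (aeval (R := Λ) a).toLinearMap) fun f hf => by
      have h := Ideal.mem_map_of_mem (aeval (R := Λ) a) hf
      rw [Ideal.map_pow, map_mv] at h
      exact (Submodule.Quotient.mk_eq_zero _).2 (by simpa using h)

theorem evalLin_mk (n : ℕ) (f : MvPolynomial (Fin r) Λ) :
    evalLin a n (Ideal.Quotient.mk _ f) = Submodule.Quotient.mk (aeval a f) := rfl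

/-- Evaluation, as a map of towers. -/
noncomputable def ev : tower Λ r ⟶ ProEtDC.quotTower Λ (Ia a) where
  app n := ModuleCat.ofHom (evalLin a n.unop)
  naturality m n h := ModuleCat.hom_ext (LinearMap.ext fun x => by
    obtain ⟨f, rfl⟩ := Ideal.Quotient.mk_surjective x; rfl)

theorem ev_surjective (n : ℕ) : Function.Surjective (evalLin a n) := fun y => by
  obtain ⟨c, rfl⟩ := Submodule.Quotient.mk_surjective _ y
  exact ⟨Ideal.Quotient.mk _ (C c), by rw [evalLin_mk, aeval_C]; rfl⟩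

theorem D_ev (i : Fin r) : D a i ≫ ev a = 0 :=
  NatTrans.ext (funext fun n => ModuleCat.hom_ext (LinearMap.ext fun x => by
    obtain ⟨f, rfl⟩ := Ideal.Quotient.mk_surjective x
    show evalLin a n.unop (Ideal.Quotient.mk _ ((X i - C (a i)) * f)) = 0
    rw [evalLin_mk, map_mul, map_sub, aeval_X, aeval_C, Algebra.algebraMap_self, RingHom.id_apply, sub_self,
      zero_mul]
    rfl))

/-- The differential. -/
noncomputable def dlin (n : ℕ) :
    (Fin r → MvPolynomial (Fin r) Λ ⧸ mv Λ r ^ n) →ₗ[Λ] MvPolynomial (Fin r) Λ ⧸ mv Λ r ^ n :=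
  ∑ i, (LinearMap.mulLeft Λ (Ideal.Quotient.mk (mv Λ r ^ n) (X i - C (a i)))).comp (LinearMap.proj i)

theorem dlin_apply (n : ℕ) (g : Fin r → MvPolynomial (Fin r) Λ ⧸ mv Λ r ^ n) :
    dlin a n g = ∑ i, Ideal.Quotient.mk (mv Λ r ^ n) (X i - C (a i)) * g i := by
  simp [dlin]

theorem exists_dlin_eq (n : ℕ) (x : MvPolynomial (Fin r) Λ ⧸ mv Λ r ^ n) (h : evalLin a n x = 0) :
    ∃ g, dlin a n g = x := by
  obtain ⟨f, rfl⟩ := Ideal.Quotient.mk_surjective x
  rw [evalLin_mk, Submodule.Quotient.mk_eq_zero, smul_eq_mul, Ideal.mul_top, ← map_mv, ← Ideal.map_pow,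
    Ideal.mem_map_iff_of_surjective (f := aeval (R := Λ) a) fun c => ⟨C c, by simp⟩] at h
  obtain ⟨g₀, hg₀, he⟩ := h
  have hm : f - g₀ ∈ Ideal.span (Set.range fun i => X i - C (a i)) := by
    have := mem_span_X_sub_C a (f - g₀)
    rwa [map_sub, he, sub_self, map_zero, sub_zero] at this
  obtain ⟨c, hc⟩ := Ideal.mem_span_range_iff_exists_fun.1 hm
  refine ⟨fun i => Ideal.Quotient.mk _ (c i), ?_⟩
  rw [dlin_apply, show Ideal.Quotient.mk (mv Λ r ^ n) f = Ideal.Quotient.mk (mv Λ r ^ n) (f - g₀) by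
    rw [map_sub, Ideal.Quotient.eq_zero_iff_mem.2 hg₀, sub_zero], ← hc, map_sum]
  exact Finset.sum_congr rfl fun i _ => by rw [map_mul, mul_comm]

/-- The syzygies. -/
noncomputable def syz : Submodule Λ (Fin r → MvPolynomial (Fin r) Λ) :=
  LinearMap.ker (∑ i, (LinearMap.mulLeft Λ (X i - C (a i))).comp (LinearMap.proj i) :
    (Fin r → MvPolynomial (Fin r) Λ) →ₗ[Λ] MvPolynomial (Fin r) Λ)

theorem mem_syz (g : Fin r → MvPolynomial (Fin r) Λ) : g ∈ syz a ↔ ∑ i, (X i - C (a i)) * g i = 0 := by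
  simp [syz]

/-- Reduction of syzygies. -/
noncomputable def red (n : ℕ) : syz a →ₗ[Λ] (Fin r → MvPolynomial (Fin r) Λ ⧸ mv Λ r ^ n) :=
  (LinearMap.pi fun i => (Ideal.Quotient.mkₐ Λ (mv Λ r ^ n)).toLinearMap.comp (LinearMap.proj i)).comp
    (syz a).subtype

theorem dlin_red (n : ℕ) (k : syz a) : dlin a n (red a n k) = 0 := by
  rw [dlin_apply]
  show ∑ i, Ideal.Quotient.mk (mv Λ r ^ n) (X i - C (a i)) * Ideal.Quotient.mk _ (k.1 i) = 0
  simp only [← map_mul, ← map_sum, (mem_syz a k.1).1 k.2, map_zero]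

variable [IsNoetherianRing Λ]

/-- Artin–Rees: relations modulo high powers come from relations. -/
theorem exists_red_eq : ∃ c : ℕ, ∀ (n : ℕ) (g : Fin r → MvPolynomial (Fin r) Λ ⧸ mv Λ r ^ (n + c)),
    dlin a (n + c) g = 0 → ∃ k : syz a, ∀ i, red a n k i = tr (Nat.le_add_right n c) (g i) := by
  let J : Ideal (MvPolynomial (Fin r) Λ) := Ideal.span (Set.range fun i => X i - C (a i))
  obtain ⟨c, hc⟩ := Ideal.exists_pow_inf_eq_pow_smul (mv Λ r) (M := MvPolynomial (Fin r) Λ) J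
  refine ⟨c, fun n g hg => ?_⟩
  choose f hf using fun i => Ideal.Quotient.mk_surjective (g i)
  have h1 : ∑ i, (X i - C (a i)) * f i ∈ mv Λ r ^ (n + c) := by
    rw [← Ideal.Quotient.eq_zero_iff_mem, map_sum, ← hg, dlin_apply]
    simp [hf]
  have h2 : ∑ i, (X i - C (a i)) * f i ∈ mv Λ r ^ n • J := by
    have h3 : ∑ i, (X i - C (a i)) * f i ∈ mv Λ r ^ (n + c) • (⊤ : Submodule _ (MvPolynomial (Fin r) Λ)) ⊓ J :=
      ⟨by simpa using h1, Ideal.sum_mem _ fun i _ => Ideal.mul_mem_right _ _ (Ideal.subset_span ⟨i, rfl⟩)⟩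
    rw [hc (n + c) (Nat.le_add_left c n), Nat.add_sub_cancel] at h3
    exact Submodule.smul_mono le_rfl inf_le_right h3
  obtain ⟨h, hh, hsum⟩ := (Submodule.mem_ideal_smul_span_iff_exists_sum (mv Λ r ^ n) _ _).1 h2
  rw [Finsupp.sum_fintype _ _ (fun _ => by simp)] at hsum
  refine ⟨⟨fun i => f i - h i, (mem_syz a _).2 ?_⟩, fun i => ?_⟩
  · simp only [smul_eq_mul] at hsum
    simp only [mul_sub, Finset.sum_sub_distrib]
    rw [sub_eq_zero, ← hsum]
    exact Finset.sum_congr rfl fun i _ => mul_comm (h i) _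
  · show Ideal.Quotient.mk (mv Λ r ^ n) (f i - h i) = _
    rw [← hf i, tr_mk, map_sub, Ideal.Quotient.eq_zero_iff_mem.2 (hh i), sub_zero]

omit [IsNoetherianRing Λ] in
theorem coeff_eq_zero {n : ℕ} (ν : Fin r →₀ ℕ) (hν : Finsupp.degree ν < n) (f : MvPolynomial (Fin r) Λ)
    (hf : f ∈ mv Λ r ^ n) : f.coeff ν = 0 :=
  (mem_pow_idealOfVars_iff' n f).1 hf ν hν

/-- Coefficient maps. -/
noncomputable def coef (ν : Fin r →₀ ℕ) (n : ℕ) (h : Finsupp.degree ν < n) : P Λ r n ⟶ ModuleCat.of Λ Λ :=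
  ModuleCat.ofHom (Submodule.liftQ ((mv Λ r ^ n).restrictScalars Λ) (MvPolynomial.lcoeff Λ ν)
    fun f hf => coeff_eq_zero ν h f hf)

omit [IsNoetherianRing Λ] in
theorem coef_mk (ν : Fin r →₀ ℕ) (n : ℕ) (h : Finsupp.degree ν < n) (f : MvPolynomial (Fin r) Λ) :
    coef ν n h (Ideal.Quotient.mk _ f) = f.coeff ν := rfl

variable (Λ r) in
/-- Tuples of truncations. -/
noncomputable abbrev Pr (n : ℕ) : ModuleCat.{u + 1} Λ :=
  ModuleCat.of Λ (Fin r → MvPolynomial (Fin r) Λ ⧸ mv Λ r ^ n)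

/-- The differential as a morphism. -/
noncomputable def dn (n : ℕ) : Pr Λ r n ⟶ P Λ r n := ModuleCat.ofHom (dlin a n)

/-- Evaluation as a morphism. -/
noncomputable def en (n : ℕ) : P Λ r n ⟶ ModuleCat.of Λ (Λ ⧸ (Ia a ^ n • ⊤ : Submodule Λ Λ)) :=
  ModuleCat.ofHom (evalLin a n)

/-- Transitions of tuples. -/
noncomputable def trr {m n : ℕ} (h : n ≤ m) : Pr Λ r m ⟶ Pr Λ r n :=
  ModuleCat.ofHom (LinearMap.pi fun i => (tr h).hom.comp (LinearMap.proj i))

/-- Projections of tuples. -/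
noncomputable def pj (i : Fin r) (n : ℕ) : Pr Λ r n ⟶ P Λ r n := ModuleCat.ofHom (LinearMap.proj i)

/-- Reduction of syzygies as a morphism. -/
noncomputable def rho (n : ℕ) : ModuleCat.of Λ (syz a) ⟶ Pr Λ r n := ModuleCat.ofHom (red a n)

omit [IsNoetherianRing Λ] in
theorem trr_dn {m n : ℕ} (h : n ≤ m) : trr h ≫ dn a n = dn a m ≫ tr h :=
  ModuleCat.hom_ext (LinearMap.ext fun g => by
    show (dlin a n fun i => tr h (g i)) = tr h (dlin a m g)
    rw [dlin_apply, dlin_apply, map_sum]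
    refine Finset.sum_congr rfl fun i _ => ?_
    obtain ⟨f, hf⟩ := Ideal.Quotient.mk_surjective (g i)
    rw [← hf]
    rfl)

omit [IsNoetherianRing Λ] in
theorem trr_surjective {m n : ℕ} (h : n ≤ m) : Function.Surjective (trr (Λ := Λ) (r := r) h) := fun g => by
  choose f hf using fun i => Ideal.Quotient.mk_surjective (g i)
  exact ⟨fun i => Ideal.Quotient.mk _ (f i), funext fun i => hf i⟩

omit [IsNoetherianRing Λ] in
theorem trr_comp {m n k : ℕ} (h : n ≤ m) (h' : k ≤ n) :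
    trr (Λ := Λ) (r := r) h ≫ trr h' = trr (h'.trans h) :=
  ModuleCat.hom_ext (LinearMap.ext fun g => funext fun i => by
    obtain ⟨f, hf⟩ := Ideal.Quotient.mk_surjective (g i)
    show tr h' (tr h (g i)) = tr (h'.trans h) (g i)
    rw [← hf]
    rfl)

omit [IsNoetherianRing Λ] in
theorem rho_dn (n : ℕ) : rho a n ≫ dn a n = 0 := ModuleCat.hom_ext (LinearMap.ext fun k => dlin_red a n k)

omit [IsNoetherianRing Λ] in
theorem rho_trr {m n : ℕ} (h : n ≤ m) : rho a m ≫ trr h = rho a n := ModuleCat.hom_ext (LinearMap.ext fun _ => rfl)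

omit [IsNoetherianRing Λ] in
theorem pj_tr (i : Fin r) {m n : ℕ} (h : n ≤ m) : pj (Λ := Λ) i m ≫ tr h = trr h ≫ pj i n := rfl

omit [IsNoetherianRing Λ] in
theorem dn_eq_sum (n : ℕ) : dn a n = ∑ i, pj i n ≫ (D a i).app (op n) := ModuleCat.hom_ext (by
  rw [ModuleCat.hom_sum]
  rfl)

omit [IsNoetherianRing Λ] in
theorem exact_dn_en (n : ℕ) : Function.Exact (dn a n) (en a n) := fun x =>
  ⟨fun hx => exists_dlin_eq a n x hx, by
    rintro ⟨g, rfl⟩
    show evalLin a n (dlin a n g) = 0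
    rw [dlin_apply, map_sum]
    exact Finset.sum_eq_zero fun i _ =>
      LinearMap.congr_fun (congrArg ModuleCat.Hom.hom (congrArg (fun t => t.app (op n)) (D_ev a i))) (g i)⟩

end Groth.Agent.H1DC.PowerTower
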