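import Groth.Agent.H1DC.Nakayama
import Groth.Agent.H1DC.PowerTower

/-!
# Maps out of the completed constant sheaf

A map from the constant sheaf into a derived complete sheaf extends to the completed constant sheaf.
-/

set_option autoImplicit false
set_option linter.style.haveILetI false
set_option backward.isDefEq.respectTransparency false

universe u

open CategoryTheory CategoryTheory.Limits AlgebraicGeometry Opposite

namespace Groth.Agent.H1DC

variable {Λ : Type (u + 1)} [CommRing Λ] {X : Scheme.{u}}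

section Sum

variable {F W : EtModW.ModP Λ X} {f : Λ} (hf : IsIso (theta (smulNat f) F))
include hf

/-- Convergent sums in a derived complete sheaf. -/
noncomputable def sumOne (y : ℕ → (W ⟶ F)) : W ⟶ F :=
  haveI := hf
  Pi.lift (fun n => -y n) ≫ inv (theta (smulNat f) F) ≫ Pi.π (fun _ : ℕ => F) 0

theorem sumOne_eq (y x : ℕ → (W ⟶ F)) (h : ∀ n, x n = y n + x (n + 1) ≫ ProEtDC.smulHom Λ F f) :
    sumOne hf y = x 0 := by
  haveI := hf
  have : Pi.lift x ≫ theta (smulNat f) F = Pi.lift fun n => -y n := Pi.hom_ext _ _ fun n => by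
    rw [Category.assoc, Pi.lift_π, theta, Pi.lift_π, Preadditive.comp_sub, Pi.lift_π_assoc, Pi.lift_π]
    show x (n + 1) ≫ ProEtDC.smulHom Λ F f - x n = -y n
    rw [h n]
    abel
  rw [sumOne, ← this, Category.assoc, IsIso.hom_inv_id_assoc, Pi.lift_π]

theorem exists_sol (y : ℕ → (W ⟶ F)) :
    ∃ x : ℕ → (W ⟶ F), ∀ n, x n = y n + x (n + 1) ≫ ProEtDC.smulHom Λ F f := by
  haveI := hf
  let z := Pi.lift (fun n => -y n) ≫ inv (theta (smulNat f) F)
  refine ⟨fun n => z ≫ Pi.π (fun _ : ℕ => F) n, fun n => ?_⟩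
  have h1 : z ≫ theta (smulNat f) F ≫ Pi.π (fun _ : ℕ => F) n = -y n := by simp [z]
  rw [theta, Pi.lift_π, Preadditive.comp_sub] at h1
  have h2 : (z ≫ Pi.π (fun _ : ℕ => F) (n + 1)) ≫ ProEtDC.smulHom Λ F f - z ≫ Pi.π (fun _ : ℕ => F) n = -y n := by
    rw [Category.assoc]
    exact h1
  show z ≫ Pi.π (fun _ : ℕ => F) n = y n + (z ≫ Pi.π (fun _ : ℕ => F) (n + 1)) ≫ ProEtDC.smulHom Λ F f
  rw [sub_eq_iff_eq_add] at h2
  rw [h2]
  abel

theorem sumOne_delta (g : W ⟶ F) (y : ℕ → (W ⟶ F)) (h0 : y 0 = g) (h : ∀ n, y (n + 1) = 0) : sumOne hf y = g :=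
  sumOne_eq hf y (fun n => if n = 0 then g else 0) fun n => by
    rcases n with _ | n <;> simp [h0, h]

theorem sumOne_shift (y y' : ℕ → (W ⟶ F)) (h0 : y' 0 = 0) (h : ∀ n, y' (n + 1) = y n) :
    sumOne hf y' = sumOne hf y ≫ ProEtDC.smulHom Λ F f := by
  obtain ⟨x, hx⟩ := exists_sol hf y
  rw [sumOne_eq hf y x hx]
  refine sumOne_eq hf y' (fun n => match n with | 0 => x 0 ≫ ProEtDC.smulHom Λ F f | n + 1 => x n) fun n => ?_
  rcases n with _ | n
  · simp [h0]
  · simpa [h] using hx n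

theorem sumOne_comp (y : ℕ → (W ⟶ F)) {W' : EtModW.ModP Λ X} (g : W' ⟶ W) :
    sumOne hf (fun n => g ≫ y n) = g ≫ sumOne hf y := by
  obtain ⟨x, hx⟩ := exists_sol hf y
  rw [sumOne_eq hf y x hx]
  exact sumOne_eq hf _ (fun n => g ≫ x n) fun n => by
    conv_lhs => rw [hx n]
    simp

theorem sumOne_postcomp (y : ℕ → (W ⟶ F)) (e : Λ) :
    sumOne hf (fun n => y n ≫ ProEtDC.smulHom Λ F e) = sumOne hf y ≫ ProEtDC.smulHom Λ F e := by
  obtain ⟨x, hx⟩ := exists_sol hf y
  rw [sumOne_eq hf y x hx]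
  exact sumOne_eq hf _ (fun n => x n ≫ ProEtDC.smulHom Λ F e) fun n => by
    conv_lhs => rw [hx n]
    simp only [Preadditive.add_comp, Category.assoc]
    congr 2
    exact ((smulNat f).naturality (ProEtDC.smulHom Λ F e)).symm

theorem sumOne_sub (y y' : ℕ → (W ⟶ F)) :
    sumOne hf (fun n => y n - y' n) = sumOne hf y - sumOne hf y' := by
  obtain ⟨x, hx⟩ := exists_sol hf y
  obtain ⟨x', hx'⟩ := exists_sol hf y'
  rw [sumOne_eq hf y x hx, sumOne_eq hf y' x' hx']
  exact sumOne_eq hf _ (fun n => x n - x' n) fun n => by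
    conv_lhs => rw [hx n, hx' n]
    simp only [Preadditive.sub_comp]
    abel

end Sum

section MultiSum

variable {F W : EtModW.ModP Λ X}

/-- Iterated convergent sums. -/
noncomputable def multiSum : ∀ {r : ℕ} (a : Fin r → Λ), (∀ k, IsIso (theta (smulNat (a k)) F)) →
    ((Fin r → ℕ) → (W ⟶ F)) → (W ⟶ F)
  | 0, _, _, φ => φ Fin.elim0
  | _ + 1, a, h, φ => sumOne (h 0) fun j =>
      multiSum (fun k => a k.succ) (fun k => h k.succ) fun v => φ (Fin.cons j v)

theorem multiSum_delta : ∀ {r : ℕ} (a : Fin r → Λ) (h : ∀ k, IsIso (theta (smulNat (a k)) F))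
    (φ : (Fin r → ℕ) → (W ⟶ F)) (g : W ⟶ F), φ 0 = g → (∀ v, v ≠ 0 → φ v = 0) → multiSum a h φ = g := by
  intro r
  induction r with
  | zero =>
    intro a h φ g h0 _
    show φ Fin.elim0 = g
    rw [← h0]
    exact congrArg φ (Subsingleton.elim _ _)
  | succ r ih =>
    intro a h φ g h0 hne
    refine sumOne_delta (h 0) g _ (ih _ _ _ g ?_ fun v hv => hne _ fun he => hv ?_) fun n =>
      ih _ _ _ 0 (hne _ fun he => ?_) fun v _ => hne _ fun he => ?_
    · rw [← h0]
      congr 1
      ext k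
      refine Fin.cases ?_ (fun k => ?_) k <;> simp
    · funext k
      simpa using congrFun he k.succ
    · simpa using congrFun he 0
    · simpa using congrFun he 0

theorem multiSum_comp : ∀ {r : ℕ} (a : Fin r → Λ) (h : ∀ k, IsIso (theta (smulNat (a k)) F))
    (φ : (Fin r → ℕ) → (W ⟶ F)) {W' : EtModW.ModP Λ X} (g : W' ⟶ W),
    multiSum a h (fun v => g ≫ φ v) = g ≫ multiSum a h φ := by
  intro r
  induction r with
  | zero => intros; rfl
  | succ r ih =>
    intro a h φ W' g
    exact (congrArg (sumOne (h 0)) (funext fun j => ih _ _ _ g)).trans (sumOne_comp (h 0) _ g)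

theorem multiSum_sub : ∀ {r : ℕ} (a : Fin r → Λ) (h : ∀ k, IsIso (theta (smulNat (a k)) F))
    (φ φ' : (Fin r → ℕ) → (W ⟶ F)),
    multiSum a h (fun v => φ v - φ' v) = multiSum a h φ - multiSum a h φ' := by
  intro r
  induction r with
  | zero => intros; rfl
  | succ r ih =>
    intro a h φ φ'
    exact (congrArg (sumOne (h 0)) (funext fun j => ih _ _ _ _)).trans (sumOne_sub (h 0) _ _)

theorem multiSum_postcomp : ∀ {r : ℕ} (a : Fin r → Λ) (h : ∀ k, IsIso (theta (smulNat (a k)) F))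
    (φ : (Fin r → ℕ) → (W ⟶ F)) (e : Λ),
    multiSum a h (fun v => φ v ≫ ProEtDC.smulHom Λ F e) = multiSum a h φ ≫ ProEtDC.smulHom Λ F e := by
  intro r
  induction r with
  | zero => intros; rfl
  | succ r ih =>
    intro a h φ e
    exact (congrArg (sumOne (h 0)) (funext fun j => ih _ _ _ e)).trans (sumOne_postcomp (h 0) _ e)

theorem multiSum_shift : ∀ {r : ℕ} (a : Fin r → Λ) (h : ∀ k, IsIso (theta (smulNat (a k)) F))
    (φ φ' : (Fin r → ℕ) → (W ⟶ F)) (i : Fin r),
    (∀ v, v i = 0 → φ' v = 0) → (∀ v, φ' (Function.update v i (v i + 1)) = φ v) →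
    multiSum a h φ' = multiSum a h φ ≫ ProEtDC.smulHom Λ F (a i) := by
  intro r
  induction r with
  | zero => intro a h φ φ' i; exact i.elim0
  | succ r ih =>
    intro a h φ φ' i
    refine Fin.cases ?_ (fun i => ?_) i
    · intro h0 hs
      refine sumOne_shift (h 0) _ _
        (multiSum_delta _ _ _ 0 (h0 _ (by simp)) fun v _ => h0 _ (by simp)) fun n => ?_
      refine congrArg _ (funext fun v => ?_)
      rw [← hs (Fin.cons n v)]
      congr 1
      simp [Fin.update_cons_zero]
    · intro h0 hs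
      refine (congrArg (sumOne (h 0)) (funext fun j => ?_)).trans (sumOne_postcomp (h 0) _ (a i.succ))
      refine ih (fun k => a k.succ) (fun k => h k.succ) _ _ i (fun v hv => h0 _ (by simpa using hv)) fun v => ?_
      rw [← hs (Fin.cons j v)]
      simp [Fin.cons_update]

end MultiSum

section Sections

variable {V : X.ProEt}

variable (X) in
/-- Constant sheaves. -/
noncomputable abbrev constP : ModuleCat.{u + 1} Λ ⥤ EtModW.ModP Λ X :=
  constantSheaf (Scheme.ProEt.topology X) (ModuleCat.{u + 1} Λ)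

/-- Sections of constant sheaves. -/
noncomputable abbrev secC (V : X.ProEt) : ModuleCat.{u + 1} Λ ⥤ ModuleCat.{u + 1} Λ :=
  constP (Λ := Λ) X ⋙ sheafToPresheaf _ _ ⋙ (evaluation _ _).obj (op V)

theorem secC_surjective (hV : ProEtS.IsWC V) {M N : ModuleCat.{u + 1} Λ} (g : M ⟶ N)
    (hg : Function.Surjective g) : Function.Surjective ((secC V).map g) := by
  haveI : Epi g := (ModuleCat.epi_iff_surjective g).2 hg
  haveI : (constP (Λ := Λ) X).IsLeftAdjoint :=
    (constantSheafAdj (Scheme.ProEt.topology X) (ModuleCat.{u + 1} Λ)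
      (show IsTerminal (ProEtS.topP X) from IsTerminal.ofUniqueHom
        (fun Z => MorphismProperty.Over.homMk Z.hom (Category.comp_id _) trivial)
        fun Z m => MorphismProperty.Over.Hom.ext ((Category.comp_id m.left).symm.trans (MorphismProperty.Over.w m)))).isLeftAdjoint
  haveI : Epi ((constP (Λ := Λ) X).map g) := (constP (Λ := Λ) X).map_epi g
  exact surjective_of_epi hV _

theorem constP_additive : (constP (Λ := Λ) X).Additive :=
  haveI := preservesBinaryBiproducts_of_preservesBinaryCoproducts (constP (Λ := Λ) X)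
  Functor.additive_of_preservesBinaryBiproducts _

theorem secC_additive (V : X.ProEt) : (secC (Λ := Λ) V).Additive :=
  haveI := constP_additive (Λ := Λ) (X := X)
  inferInstance

theorem secC_exact (hV : ProEtS.IsWC V) {M₁ M₂ M₃ : ModuleCat.{u + 1} Λ} (g : M₁ ⟶ M₂) (g' : M₂ ⟶ M₃)
    (h : Function.Exact g g') : Function.Exact ((secC V).map g) ((secC V).map g') := by
  haveI := secC_additive (Λ := Λ) V
  haveI : PreservesFiniteLimits (presheafToSheaf (Scheme.ProEt.topology X) (ModuleCat.{u + 1} Λ)) := inferInstance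
  haveI : PreservesFiniteLimits (constP (Λ := Λ) X) :=
    comp_preservesFiniteLimits (Functor.const _) (presheafToSheaf _ _)
  haveI : PreservesFiniteLimits (secC (Λ := Λ) V) := inferInstance
  haveI : (secC (Λ := Λ) V).PreservesEpimorphisms := ⟨fun q hq =>
    (ModuleCat.epi_iff_surjective _).2 (secC_surjective hV q ((ModuleCat.epi_iff_surjective q).1 hq))⟩
  haveI : (secC (Λ := Λ) V).PreservesHomology := Functor.preservesHomology_of_preservesEpis_and_kernels _
  have w : g ≫ g' = 0 := ModuleCat.hom_ext (LinearMap.ext h.apply_apply_eq_zero)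
  have he := ((ShortComplex.ShortExact.moduleCat_exact_iff_function_exact (ShortComplex.mk g g' w)).2 h).map (secC V)
  exact (ShortComplex.ShortExact.moduleCat_exact_iff_function_exact _).1 he

theorem secC_injective (hV : ProEtS.IsWC V) {M N : ModuleCat.{u + 1} Λ} (g : M ⟶ N) (hg : Function.Injective g) :
    Function.Injective ((secC V).map g) := by
  haveI := secC_additive (Λ := Λ) V
  have h := secC_exact hV (0 : M ⟶ M) g (fun x => ⟨fun hx => ⟨0, by
    rw [map_zero]; exact (hg (hx.trans (map_zero _).symm)).symm⟩, fun ⟨y, hy⟩ => by subst hy; simp⟩)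
  refine (injective_iff_map_eq_zero ((secC V).map g).hom).2 fun x hx => ?_
  obtain ⟨y, rfl⟩ := (h x).1 hx
  simp [Functor.map_zero]

end Sections

section Extension

open PowerTower

variable {r : ℕ} (a : Fin r → Λ) (V : X.ProEt)

/-- The completed polynomial sheaf. -/
noncomputable abbrev pInf : EtModW.ModP Λ X := limit (tower Λ r ⋙ constP X)

variable (X) in
/-- Evaluation. -/
noncomputable abbrev evInf : pInf (Λ := Λ) (X := X) (r := r) ⟶ ProEtDC.lambdaHat Λ X (Ia a) :=
  limMap (Functor.whiskerRight (ev a) (constP X))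

variable (X) in
/-- The relations. -/
noncomputable abbrev DInf (i : Fin r) :
    pInf (Λ := Λ) (X := X) (r := r) ⟶ pInf (Λ := Λ) (X := X) (r := r) :=
  limMap (Functor.whiskerRight (D a i) (constP X))

theorem exists_section {D : ℕᵒᵖ ⥤ EtModW.ModP Λ X} (x : ∀ n : ℕ, (D.obj (op n)).obj.obj (op V))
    (hx : ∀ (n : ℕ), (D.map (homOfLE (Nat.le_succ n)).op).hom.app (op V) (x (n + 1)) = x n) :
    ∃ z : (limit D).obj.obj (op V), ∀ n, (limit.π D (op n)).hom.app (op V) z = x n := by
  let E : EtModW.ModP Λ X ⥤ ModuleCat.{u + 1} Λ := sheafToPresheaf _ _ ⋙ (evaluation _ _).obj (op V)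
  let hl := isLimitOfPreserves (E ⋙ forget (ModuleCat.{u + 1} Λ)) (limit.isLimit D)
  have key : ∀ (n k : ℕ), (D.map (homOfLE (Nat.le_add_right n k)).op).hom.app (op V) (x (n + k)) = x n := by
    intro n k
    induction k with
    | zero =>
      show (D.map (𝟙 (op n))).hom.app (op V) (x n) = x n
      rw [D.map_id]
      rfl
    | succ k ih =>
      have e : (homOfLE (Nat.le_add_right n (k + 1))).op =
          (homOfLE (Nat.le_succ (n + k))).op ≫ (homOfLE (Nat.le_add_right n k)).op := Subsingleton.elim _ _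
      show (D.map (homOfLE (Nat.le_add_right n (k + 1))).op).hom.app (op V) (x (n + k + 1)) = x n
      rw [e, D.map_comp]
      show (D.map _).hom.app (op V) ((D.map _).hom.app (op V) (x (n + k + 1))) = x n
      rw [hx, ih]
  let σ : (D ⋙ E ⋙ forget (ModuleCat.{u + 1} Λ)).sections := ⟨fun n => x n.unop, fun {m n} f => by
    obtain ⟨k, hk⟩ := Nat.exists_eq_add_of_le (leOfHom f.unop)
    obtain ⟨m⟩ := m
    obtain ⟨n⟩ := n
    change m = n + k at hk
    subst hk
    rw [show f = (homOfLE (Nat.le_add_right n k)).op from Subsingleton.elim _ _]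
    exact key n k⟩
  exact ⟨(Types.isLimitEquivSections hl).symm σ, fun n =>
    Types.isLimitEquivSections_symm_apply hl σ (op n)⟩

theorem eq_of_π_eq {D : ℕᵒᵖ ⥤ EtModW.ModP Λ X} (z z' : (limit D).obj.obj (op V))
    (h : ∀ n, (limit.π D (op n)).hom.app (op V) z = (limit.π D (op n)).hom.app (op V) z') : z = z' := by
  let E : EtModW.ModP Λ X ⥤ ModuleCat.{u + 1} Λ := sheafToPresheaf _ _ ⋙ (evaluation _ _).obj (op V)
  exact (Types.isLimitEquivSections (isLimitOfPreserves (E ⋙ forget (ModuleCat.{u + 1} Λ)) (limit.isLimit D))).injective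
    (Subtype.ext (funext fun n => h n.unop))

theorem π_limMap {D D' : ℕᵒᵖ ⥤ EtModW.ModP Λ X} (φ : D ⟶ D') (n : ℕ) (z : (limit D).obj.obj (op V)) :
    (limit.π D' (op n)).hom.app (op V) ((limMap φ).hom.app (op V) z) =
      (φ.app (op n)).hom.app (op V) ((limit.π D (op n)).hom.app (op V) z) :=
  ConcreteCategory.congr_hom (congrArg (fun q : (limit D ⟶ D'.obj (op n)) => q.hom.app (op V))
    (limMap_π φ (op n))) z

theorem π_compat {D : ℕᵒᵖ ⥤ EtModW.ModP Λ X} (z : (limit D).obj.obj (op V)) {m n : ℕ} (h : n ≤ m) :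
    (D.map (homOfLE h).op).hom.app (op V) ((limit.π D (op m)).hom.app (op V) z) =
      (limit.π D (op n)).hom.app (op V) z :=
  ConcreteCategory.congr_hom (congrArg (fun q : (limit D ⟶ D.obj (op n)) => q.hom.app (op V))
    (limit.w D (homOfLE h).op)) z

theorem secC_map_comp {M N K : ModuleCat.{u + 1} Λ} (g : M ⟶ N) (h : N ⟶ K) (x : (secC V).obj M) :
    (secC V).map h ((secC V).map g x) = (secC V).map (g ≫ h) x := by
  rw [Functor.map_comp]; rfl

theorem sum_apply' {ι : Type*} (s : Finset ι) {M N : ModuleCat.{u + 1} Λ} (f : ι → (M ⟶ N)) (x : M) :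
    (∑ i ∈ s, f i) x = ∑ i ∈ s, f i x := by
  classical
  induction s using Finset.induction with
  | empty => simp
  | insert b t hb ih => rw [Finset.sum_insert hb, Finset.sum_insert hb, ← ih]; rfl

theorem evInf_surjective (hV : ProEtS.IsWC V) : Function.Surjective ((evInf X a).hom.app (op V)) := by
  intro q
  let qn : ∀ n, (secC V).obj ((ProEtDC.quotTower Λ (Ia a)).obj (op n)) := fun n =>
    (limit.π (ProEtDC.quotTower Λ (Ia a) ⋙ constP X) (op n)).hom.app (op V) q
  haveI := secC_additive (Λ := Λ) V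
  have hlift : ∀ (n : ℕ) (p : (secC V).obj (P Λ r n)), (secC V).map (en a n) p = qn n →
      ∃ p' : (secC V).obj (P Λ r (n + 1)), (secC V).map (en a (n + 1)) p' = qn (n + 1) ∧
        (secC V).map (tr (Nat.le_succ n)) p' = p := by
    intro n p hp
    obtain ⟨p₁, hp₁⟩ := secC_surjective hV (en a (n + 1)) (ev_surjective a (n + 1)) (qn (n + 1))
    have hdiff : (secC V).map (en a n) ((secC V).map (tr (Nat.le_succ n)) p₁ - p) = 0 := by
      rw [map_sub, hp, secC_map_comp, sub_eq_zero]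
      rw [show tr (Nat.le_succ n) ≫ en a n = en a (n + 1) ≫
        (ProEtDC.quotTower Λ (Ia a)).map (homOfLE (Nat.le_succ n)).op from
          (ev a).naturality (homOfLE (Nat.le_succ n)).op, ← secC_map_comp, hp₁]
      exact π_compat V q (Nat.le_succ n)
    obtain ⟨g, hg⟩ := (secC_exact hV _ _ (exact_dn_en a n) _).1 hdiff
    obtain ⟨g', hg'⟩ := secC_surjective hV (trr (Nat.le_succ n)) (trr_surjective _) g
    refine ⟨p₁ - (secC V).map (dn a (n + 1)) g', ?_, ?_⟩
    · rw [map_sub, hp₁, sub_eq_self]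
      exact (secC_exact hV _ _ (exact_dn_en a (n + 1))).apply_apply_eq_zero g'
    · rw [map_sub, secC_map_comp V (dn a (n + 1)) (tr _), ← trr_dn, ← secC_map_comp, hg', hg, sub_sub_cancel]
  obtain ⟨p₀, hp₀⟩ := secC_surjective hV (en a 0) (ev_surjective a 0) (qn 0)
  let seq : ∀ n, {p : (secC V).obj (P Λ r n) // (secC V).map (en a n) p = qn n} :=
    fun n => Nat.rec ⟨p₀, hp₀⟩ (fun n p => ⟨(hlift n p.1 p.2).choose, (hlift n p.1 p.2).choose_spec.1⟩) n
  obtain ⟨z, hz⟩ := exists_section V (D := tower Λ r ⋙ constP X) (fun n => (seq n).1)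
    (fun n => (hlift n (seq n).1 (seq n).2).choose_spec.2)
  refine ⟨z, eq_of_π_eq V _ _ fun n => ?_⟩
  rw [π_limMap, hz]
  exact (seq n).2

variable [IsNoetherianRing Λ]

theorem exists_rho_eq (hV : ProEtS.IsWC V) : ∃ c : ℕ, ∀ (n : ℕ) (x : (secC V).obj (Pr Λ r (n + c))),
    (secC V).map (dn a (n + c)) x = 0 →
      ∃ k, (secC V).map (rho a n) k = (secC V).map (trr (Nat.le_add_right n c)) x := by
  haveI := secC_additive (Λ := Λ) V
  obtain ⟨c, hc⟩ := exists_red_eq a
  refine ⟨c, fun n x hx => ?_⟩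
  let R : ModuleCat.{u + 1} Λ := ModuleCat.of Λ (LinearMap.ker (dlin a (n + c)))
  let ι : R ⟶ Pr Λ r (n + c) := ModuleCat.ofHom (Submodule.subtype _)
  obtain ⟨y, hy⟩ := (secC_exact hV ι (dn a (n + c)) (fun z =>
    ⟨fun hz => ⟨⟨z, hz⟩, rfl⟩, by rintro ⟨w, rfl⟩; exact w.2⟩) x).1 hx
  let K : ModuleCat.{u + 1} Λ := ModuleCat.of Λ (syz a)
  let Wm : Submodule Λ (R × K) := LinearMap.ker
    ((trr (Nat.le_add_right n c)).hom.comp (ι.hom.comp (LinearMap.fst Λ R K)) -
      (rho a n).hom.comp (LinearMap.snd Λ R K))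
  let pr₁ : ModuleCat.of Λ Wm ⟶ R := ModuleCat.ofHom ((LinearMap.fst Λ R K).comp Wm.subtype)
  let pr₂ : ModuleCat.of Λ Wm ⟶ K := ModuleCat.ofHom ((LinearMap.snd Λ R K).comp Wm.subtype)
  have hpr : Function.Surjective pr₁ := fun z => by
    obtain ⟨k, hk⟩ := hc n z.1 z.2
    exact ⟨⟨(z, k), LinearMap.mem_ker.2 (sub_eq_zero.2 (funext fun i => (hk i).symm))⟩, rfl⟩
  have hsq : pr₁ ≫ ι ≫ trr (Nat.le_add_right n c) = pr₂ ≫ rho a n :=
    ModuleCat.hom_ext (LinearMap.ext fun w => sub_eq_zero.1 w.2)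
  obtain ⟨w, hw⟩ := secC_surjective hV pr₁ hpr y
  refine ⟨(secC V).map pr₂ w, ?_⟩
  rw [secC_map_comp, ← hsq, ← secC_map_comp, hw, ← secC_map_comp, hy]

theorem exists_compatible (hV : ProEtS.IsWC V) (pn : ∀ n, (secC V).obj (P Λ r n))
    (hcomp : ∀ {m n : ℕ} (h : n ≤ m), (secC V).map (tr h) (pn m) = pn n)
    (hev : ∀ n, (secC V).map (en a n) (pn n) = 0) :
    ∃ hn : ∀ n, (secC V).obj (Pr Λ r n), (∀ n, (secC V).map (dn a n) (hn n) = pn n) ∧
      ∀ n, (secC V).map (trr (Nat.le_succ n)) (hn (n + 1)) = hn n := by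
  haveI := secC_additive (Λ := Λ) V
  obtain ⟨c, hc⟩ := exists_rho_eq a V hV
  choose g hg using fun n => (secC_exact hV (dn a n) (en a n) (exact_dn_en a n) _).1 (hev n)
  have hd : ∀ {m n : ℕ} (h : n ≤ m) (x : (secC V).obj (Pr Λ r m)),
      (secC V).map (dn a n) ((secC V).map (trr h) x) = (secC V).map (tr h) ((secC V).map (dn a m) x) :=
    fun h x => by rw [secC_map_comp, secC_map_comp, trr_dn]
  choose δ hδ using fun n => hc n
    (g (n + c) - (secC V).map (trr (show n + c ≤ n + 1 + c by omega)) (g (n + 1 + c))) (by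
      rw [map_sub, hg, hd, hg, hcomp, sub_self])
  let κ : ℕ → (secC V).obj (ModuleCat.of Λ (syz a)) := fun n => Nat.rec 0 (fun m k => k - δ m) n
  refine ⟨fun n => (secC V).map (trr (Nat.le_add_right n c)) (g (n + c)) - (secC V).map (rho a n) (κ n),
    fun n => ?_, fun n => ?_⟩
  · rw [map_sub, hd, hg, hcomp, secC_map_comp, rho_dn, Functor.map_zero]
    exact sub_zero _
  · show (secC V).map (trr (Nat.le_succ n)) ((secC V).map (trr (Nat.le_add_right (n + 1) c)) (g (n + 1 + c)) -
      (secC V).map (rho a (n + 1)) (κ n - δ n)) = _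
    rw [map_sub, secC_map_comp V (rho a (n + 1)) (trr _), rho_trr, map_sub, hδ, map_sub,
      secC_map_comp V (trr (Nat.le_add_right (n + 1) c)) (trr _),
      secC_map_comp V (trr (show n + c ≤ n + 1 + c by omega)) (trr _), trr_comp, trr_comp]
    abel

theorem exists_sum_DInf_eq (hV : ProEtS.IsWC V) (p : (pInf (Λ := Λ) (X := X) (r := r)).obj.obj (op V))
    (hp : (evInf X a).hom.app (op V) p = 0) :
    ∃ h : Fin r → (pInf (Λ := Λ) (X := X) (r := r)).obj.obj (op V), ∑ i, (DInf X a i).hom.app (op V) (h i) = p := by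
  haveI := secC_additive (Λ := Λ) V
  obtain ⟨hn, hd, hhn⟩ := exists_compatible a V hV
    (fun n => (limit.π (tower Λ r ⋙ constP X) (op n)).hom.app (op V) p)
    (fun h => π_compat V p h) fun n => by
      refine (π_limMap V (Functor.whiskerRight (ev a) (constP X)) n p).symm.trans ?_
      rw [show (limMap (Functor.whiskerRight (ev a) (constP X))).hom.app (op V) p = 0 from hp, map_zero]
  have hsec : ∀ i : Fin r, ∃ z : (pInf (Λ := Λ) (X := X) (r := r)).obj.obj (op V),
      ∀ n, (limit.π (tower Λ r ⋙ constP X) (op n)).hom.app (op V) z = (secC V).map (pj i n) (hn n) := fun i =>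
    exists_section V (D := tower Λ r ⋙ constP X) (fun n => (secC V).map (pj i n) (hn n)) fun n => by
      show (secC V).map (tr (Nat.le_succ n)) ((secC V).map (pj i (n + 1)) (hn (n + 1))) = _
      rw [secC_map_comp, pj_tr, ← secC_map_comp, hhn]
  choose z hz using hsec
  refine ⟨z, eq_of_π_eq V _ _ fun n => ?_⟩
  rw [map_sum]
  refine Eq.trans ?_ (hd n)
  rw [dn_eq_sum, Functor.map_sum]
  refine Eq.trans ?_ (sum_apply' _ _ _).symm
  refine Finset.sum_congr rfl fun i _ => ?_
  rw [π_limMap, hz]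
  exact secC_map_comp V _ _ _

end Extension

end Groth.Agent.H1DC
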