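import Groth.Agent.H1DC.Sheaves

/-!
# Closure properties of derived completeness
-/

set_option autoImplicit false
set_option linter.style.haveILetI false
set_option backward.isDefEq.respectTransparency false

universe u v w

open CategoryTheory CategoryTheory.Limits

namespace Groth.Agent.H1DC

variable {A : Type w} [Category.{v} A] [Abelian A] [HasCountableProducts A] (t : 𝟭 A ⟶ 𝟭 A)

variable (A) in
/-- Countable powers. -/
noncomputable abbrev powF : A ⥤ A := Functor.const (Discrete ℕ) ⋙ lim

theorem theta_naturality {X Y : A} (g : X ⟶ Y) :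
    Limits.Pi.map (fun _ : ℕ => g) ≫ theta t Y = theta t X ≫ Limits.Pi.map (fun _ : ℕ => g) := by
  refine Pi.hom_ext _ _ fun n => ?_
  simp only [theta, Category.assoc, Limits.Pi.map_π, Pi.lift_π, Preadditive.comp_sub, Preadditive.sub_comp,
    Pi.lift_π_assoc, Limits.Pi.map_π_assoc]
  congr 1
  exact congrArg (Pi.π (fun _ : ℕ => X) (n + 1) ≫ ·) (t.naturality g)

/-- Countable powers as products. -/
noncomputable def powIso (X : A) : (powF A).obj X ≅ ∏ᶜ fun _ : ℕ => X :=
  HasLimit.isoOfNatIso (Discrete.natIso fun _ => Iso.refl _)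

theorem powIso_naturality {X Y : A} (g : X ⟶ Y) :
    (powF A).map g ≫ (powIso Y).hom = (powIso X).hom ≫ Limits.Pi.map (fun _ : ℕ => g) :=
  Pi.hom_ext _ _ fun n => by simp [powIso]

/-- `theta` as a natural transformation. -/
noncomputable def thetaNat : powF A ⟶ powF A where
  app X := (powIso X).hom ≫ theta t X ≫ (powIso X).inv
  naturality X Y g := by
    have h1 : (powF A).map g ≫ (powIso Y).hom = (powIso X).hom ≫ Limits.Pi.map (fun _ : ℕ => g) :=
      powIso_naturality g
    have h2 : (powIso X).inv ≫ (powF A).map g = Limits.Pi.map (fun _ : ℕ => g) ≫ (powIso Y).inv := by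
      rw [Iso.inv_comp_eq, ← Category.assoc, ← h1, Category.assoc, Iso.hom_inv_id, Category.comp_id]
    rw [← Category.assoc, h1, Category.assoc, reassoc_of% theta_naturality t g, Category.assoc, Category.assoc, h2]

theorem isIso_thetaNat_iff (X : A) : IsIso ((thetaNat t).app X) ↔ IsIso (theta t X) := by
  show IsIso ((powIso X).hom ≫ theta t X ≫ (powIso X).inv) ↔ _
  rw [isIso_comp_left_iff, isIso_comp_right_iff]

/-- A natural transformation invertible on a diagram is invertible on a preserved limit. -/
theorem isIso_app_limit {B : Type*} [Category B] {J : Type*} [Category J] {D : J ⥤ A} [HasLimit D]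
    {F F' : A ⥤ B} [PreservesLimit D F] [PreservesLimit D F'] (η : F ⟶ F') (h : ∀ j, IsIso (η.app (D.obj j))) :
    IsIso (η.app (limit D)) := by
  let e : D ⋙ F ≅ D ⋙ F' := NatIso.ofComponents (fun j => @asIso _ _ _ _ (η.app (D.obj j)) (h j))
    fun a => η.naturality (D.map a)
  let hF := isLimitOfPreserves F (limit.isLimit D)
  let hF' := isLimitOfPreserves F' (limit.isLimit D)
  have : η.app (limit D) = (hF.conePointsIsoOfNatIso hF' e).hom := hF'.hom_ext fun j => by
    rw [IsLimit.conePointsIsoOfNatIso_hom_comp]
    exact (η.naturality (limit.π D j)).symm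
  rw [this]
  infer_instance

theorem isIso_theta_limit {J : Type*} [Category J] {D : J ⥤ A} [HasLimit D] [PreservesLimit D (powF A)]
    (h : ∀ j, IsIso (theta t (D.obj j))) : IsIso (theta t (limit D)) :=
  (isIso_thetaNat_iff t _).1 (isIso_app_limit _ fun j => (isIso_thetaNat_iff t _).2 (h j))

variable [HasExactLimitsOfShape (Discrete ℕ) A]

theorem powF_exact : PreservesFiniteLimits (powF A) ∧ PreservesFiniteColimits (powF A) := by
  haveI : PreservesFiniteColimits (lim : (Discrete ℕ ⥤ A) ⥤ A) := HasExactLimitsOfShape.preservesFiniteColimits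
  haveI : (lim : (Discrete ℕ ⥤ A) ⥤ A).IsRightAdjoint := constLimAdj.isRightAdjoint
  haveI : PreservesFiniteLimits (lim : (Discrete ℕ ⥤ A) ⥤ A) := inferInstance
  exact ⟨comp_preservesFiniteLimits _ _, comp_preservesFiniteColimits _ _⟩

theorem isIso_theta_kernel {X Y : A} (g : X ⟶ Y) (hX : IsIso (theta t X)) (hY : IsIso (theta t Y)) :
    IsIso (theta t (kernel g)) := by
  haveI := (powF_exact (A := A)).1
  haveI : PreservesLimit (parallelPair g 0) (powF A) := inferInstance
  refine isIso_theta_limit t (D := parallelPair g 0) fun j => ?_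
  rcases j with _ | _
  · exact hX
  · exact hY

theorem powF_additive : (powF A).Additive := by
  haveI := (powF_exact (A := A)).1
  haveI := preservesBinaryBiproducts_of_preservesBinaryProducts (powF A)
  exact Functor.additive_of_preservesBinaryBiproducts _

theorem isIso_theta_cokernel {X Y : A} (g : X ⟶ Y) (hX : IsIso (theta t X)) (hY : IsIso (theta t Y)) :
    IsIso (theta t (cokernel g)) := by
  haveI := (powF_exact (A := A)).2
  let D := parallelPair g 0
  let e : D ⋙ powF A ≅ D ⋙ powF A := NatIso.ofComponents
    (fun j => @asIso _ _ _ _ ((thetaNat t).app (D.obj j)) (by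
      refine (isIso_thetaNat_iff t _).2 ?_
      rcases j with _ | _
      · exact hX
      · exact hY))
    fun a => (thetaNat t).naturality (D.map a)
  let hc := isColimitOfPreserves (powF A) (colimit.isColimit D)
  have : (thetaNat t).app (colimit D) = (hc.coconePointsIsoOfNatIso hc e).hom := hc.hom_ext fun j => by
    rw [IsColimit.comp_coconePointsIsoOfNatIso_hom]
    exact (thetaNat t).naturality (colimit.ι D j)
  refine (isIso_thetaNat_iff t (colimit D)).1 ?_
  rw [this]
  infer_instance

theorem isIso_theta_extension (S : ShortComplex A) (hS : S.ShortExact) (h1 : IsIso (theta t S.X₁))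
    (h3 : IsIso (theta t S.X₃)) : IsIso (theta t S.X₂) := by
  haveI := (powF_exact (A := A)).1
  haveI := (powF_exact (A := A)).2
  haveI := powF_additive (A := A)
  let φ : S.map (powF A) ⟶ S.map (powF A) := S.mapNatTrans (thetaNat t)
  haveI : IsIso φ.τ₁ := (isIso_thetaNat_iff t _).2 h1
  haveI : IsIso φ.τ₃ := (isIso_thetaNat_iff t _).2 h3
  have hS' := hS.map_of_exact (powF A)
  exact (isIso_thetaNat_iff t _).1 (ShortComplex.isIso₂_of_shortExact_of_isIso₁₃ φ hS' hS')

end Groth.Agent.H1DC
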