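import Groth.Agent.H1DC.Complete
import Mathlib.Algebra.Category.ModuleCat.Colimits
import Mathlib.RingTheory.Localization.Away.Basic
import Mathlib.Algebra.Homology.ShortComplex.ModuleCat

/-!
# Telescopes
-/

set_option autoImplicit false
set_option linter.style.haveILetI false
set_option backward.isDefEq.respectTransparency false

universe w v u

open CategoryTheory CategoryTheory.Limits

namespace Groth.Agent.H1DC

section Transfer

variable {C : Type*} [Category C] [Abelian C] {A : Type*} [Category A] [Abelian A]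
  [HasColimitsOfShape (Discrete ℕ) C] [HasColimitsOfShape (Discrete ℕ) A] (L : C ⥤ A) [L.Additive]
  [PreservesColimitsOfShape (Discrete ℕ) L] (s : 𝟭 C ⟶ 𝟭 C) (t : 𝟭 A ⟶ 𝟭 A)

/-- The telescope, for categories with countable coproducts. -/
noncomputable def psi' {A : Type*} [Category A] [Abelian A] [HasColimitsOfShape (Discrete ℕ) A]
    (t : 𝟭 A ⟶ 𝟭 A) (B : A) : (∐ fun _ : ℕ => B) ⟶ ∐ fun _ : ℕ => B :=
  Sigma.desc fun n =>
    ((t.app B ≫ Sigma.ι (fun _ : ℕ => B) (n + 1) : B ⟶ ∐ fun _ : ℕ => B) - Sigma.ι (fun _ : ℕ => B) n)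

theorem psi'_comp_sigmaComparison (X : C) (h : L.map (s.app X) = t.app (L.obj X)) :
    psi' t (L.obj X) ≫ sigmaComparison L (fun _ : ℕ => X) =
      sigmaComparison L (fun _ : ℕ => X) ≫ L.map (psi' s X) := by
  refine Sigma.hom_ext _ _ fun n => ?_
  simp only [psi', Sigma.ι_desc_assoc, Preadditive.sub_comp, Category.assoc, ι_comp_sigmaComparison,
    ι_comp_sigmaComparison_assoc, ← Functor.map_comp, Sigma.ι_desc, Functor.map_sub]
  rw [Functor.map_comp, h]

theorem mono_psi'_map (X : C) (h : L.map (s.app X) = t.app (L.obj X)) [Mono (L.map (psi' s X))] :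
    Mono (psi' t (L.obj X)) := by
  haveI : Mono (psi' t (L.obj X) ≫ sigmaComparison L (fun _ : ℕ => X)) := by
    rw [psi'_comp_sigmaComparison L s t X h]
    infer_instance
  exact mono_of_mono (psi' t (L.obj X)) (sigmaComparison L (fun _ : ℕ => X))

theorem shortExact_map [PreservesFiniteColimits L] (X : C) (h : L.map (s.app X) = t.app (L.obj X))
    {Q : C} (π : (∐ fun _ : ℕ => X) ⟶ Q) (hπ : psi' s X ≫ π = 0)
    (hS : (ShortComplex.mk _ π hπ).ShortExact) [Mono (psi' t (L.obj X))] :
    ∃ (π' : (∐ fun _ : ℕ => L.obj X) ⟶ L.obj Q) (w : psi' t (L.obj X) ≫ π' = 0),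
      (ShortComplex.mk _ π' w).ShortExact := by
  let E := asIso (sigmaComparison L (fun _ : ℕ => X))
  have w : psi' t (L.obj X) ≫ (E.hom ≫ L.map π) = 0 := by
    show psi' t (L.obj X) ≫ sigmaComparison L (fun _ : ℕ => X) ≫ L.map π = 0
    rw [reassoc_of% psi'_comp_sigmaComparison L s t X h, ← Functor.map_comp, hπ, Functor.map_zero,
      comp_zero]
  obtain ⟨he, hep⟩ := (((Functor.preservesFiniteColimits_tfae L).out 3 0 :
    PreservesFiniteColimits L ↔ ∀ (S : ShortComplex C), S.ShortExact →
      (S.map L).Exact ∧ Epi (L.map S.g)).1 ‹_›) _ hS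
  refine ⟨_, w, ?_⟩
  haveI : Epi (L.map π) := hep
  let e : ShortComplex.mk _ _ w ≅ (ShortComplex.mk _ π hπ).map L :=
    ShortComplex.isoMk E E (Iso.refl _) (psi'_comp_sigmaComparison L s t X h).symm (Category.comp_id _).symm
  exact { exact := (ShortComplex.exact_iff_of_iso e).2 he }

end Transfer

section Modules

variable {Λ : Type u} [CommRing Λ] (f : Λ)

/-- Multiplication by a scalar, naturally. -/
def smulModNat : 𝟭 (ModuleCat.{v} Λ) ⟶ 𝟭 (ModuleCat.{v} Λ) where
  app M := ModuleCat.ofHom (f • LinearMap.id)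
  naturality M N g := by
    ext x
    show f • g x = g (f • x)
    exact (map_smul g.hom f x).symm

variable {M : Type v} [AddCommGroup M] [Module Λ M]

/-- The telescope on finitely supported sequences. -/
noncomputable def psiFinsupp : (ℕ →₀ M) →ₗ[Λ] (ℕ →₀ M) :=
  Finsupp.lsum Λ fun n => f • Finsupp.lsingle (n + 1) - Finsupp.lsingle n

theorem psiFinsupp_single (n : ℕ) (m : M) :
    psiFinsupp f (Finsupp.single n m) = Finsupp.single (n + 1) (f • m) - Finsupp.single n m := by
  simp [psiFinsupp]

theorem psiFinsupp_apply (z : ℕ →₀ M) :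
    psiFinsupp f z 0 = - z 0 ∧ ∀ m, psiFinsupp f z (m + 1) = f • z m - z (m + 1) := by
  induction z using Finsupp.induction_linear with
  | zero => simp
  | add a b ha hb =>
    refine ⟨?_, fun m => ?_⟩
    · simp only [map_add, Finsupp.add_apply, ha.1, hb.1]; abel
    · simp only [map_add, Finsupp.add_apply, ha.2, hb.2, smul_add]; abel
  | single n x =>
    refine ⟨?_, fun m => ?_⟩
    · simp [psiFinsupp_single, Finsupp.single_apply]
    · simp only [psiFinsupp_single, Finsupp.coe_sub, Pi.sub_apply, Finsupp.single_apply]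
      by_cases h : n = m <;> simp [h]

theorem psiFinsupp_injective : Function.Injective (psiFinsupp (M := M) f) := by
  refine (injective_iff_map_eq_zero _).2 fun z hz => Finsupp.ext fun m => ?_
  obtain ⟨h0, hs⟩ := psiFinsupp_apply f z
  induction m with
  | zero => simpa [hz] using h0.symm
  | succ m ih => simpa [hz, ih] using (hs m).symm

theorem single_sub_mem_range (n k : ℕ) (m : M) :
    Finsupp.single n m - Finsupp.single (n + k) (f ^ k • m) ∈ LinearMap.range (psiFinsupp (M := M) f) := by
  induction k with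
  | zero => simp
  | succ k ih =>
    have h1 : psiFinsupp f (Finsupp.single (n + k) (f ^ k • m)) ∈ LinearMap.range (psiFinsupp (M := M) f) :=
      ⟨_, rfl⟩
    rw [psiFinsupp_single, smul_smul, ← pow_succ'] at h1
    have h2 := Submodule.sub_mem _ ih h1
    convert h2 using 1
    show _ = _ - (Finsupp.single (n + k + 1) _ - _)
    rw [show n + (k + 1) = n + k + 1 by omega]
    abel

/-- The map to the localization. -/
noncomputable def piLoc : (ℕ →₀ Λ) →ₗ[Λ] Localization.Away f :=
  Finsupp.lsum Λ fun n => LinearMap.toSpanSingleton Λ (Localization.Away f)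
    ((IsLocalization.Away.invSelf (S := Localization.Away f) f) ^ n)

theorem piLoc_single (n : ℕ) (a : Λ) :
    piLoc f (Finsupp.single n a) = a • (IsLocalization.Away.invSelf (S := Localization.Away f) f) ^ n := by
  simp [piLoc]

theorem algebraMap_mul_invSelf' : algebraMap Λ (Localization.Away f) f *
    IsLocalization.Away.invSelf (S := Localization.Away f) f = 1 :=
  IsLocalization.Away.mul_invSelf f

theorem piLoc_psi (z : ℕ →₀ Λ) : piLoc f (psiFinsupp f z) = 0 := by
  induction z using Finsupp.induction_linear with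
  | zero => simp
  | add a b ha hb => simp [map_add, ha, hb]
  | single n x =>
    rw [psiFinsupp_single, map_sub, piLoc_single, piLoc_single, sub_eq_zero, smul_eq_mul, Algebra.smul_def,
      Algebra.smul_def, map_mul, pow_succ', mul_comm (algebraMap Λ _ f), mul_assoc,
      ← mul_assoc (algebraMap Λ _ f), algebraMap_mul_invSelf', one_mul]

theorem piLoc_surjective : Function.Surjective (piLoc f) := by
  intro q
  obtain ⟨n, a, ha⟩ := IsLocalization.Away.surj f q
  refine ⟨Finsupp.single n a, ?_⟩
  rw [piLoc_single, Algebra.smul_def, ← ha, mul_assoc, ← mul_pow, algebraMap_mul_invSelf', one_pow, mul_one]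

theorem piLoc_exact : Function.Exact (psiFinsupp (M := Λ) f) (piLoc f) := by
  intro z
  refine ⟨fun hz => ?_, ?_⟩
  · obtain ⟨N, hN⟩ : ∃ N, ∀ n ∈ z.support, n ≤ N := ⟨z.support.sup id, fun n hn => Finset.le_sup (f := id) hn⟩
    let R := LinearMap.range (psiFinsupp (M := Λ) f)
    let c := ∑ n ∈ z.support, f ^ (N - n) * z n
    have h1 : z - Finsupp.single N c ∈ R := by
      have : z - Finsupp.single N c = ∑ n ∈ z.support,
          (Finsupp.single n (z n) - Finsupp.single (n + (N - n)) (f ^ (N - n) • z n)) := by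
        rw [Finset.sum_sub_distrib]
        congr 1
        · exact z.sum_single.symm
        · rw [Finsupp.single_finset_sum]
          refine Finset.sum_congr rfl fun n hn => ?_
          rw [Nat.add_sub_cancel' (hN n hn), smul_eq_mul]
      rw [this]
      exact Submodule.sum_mem _ fun n _ => single_sub_mem_range f n _ _
    obtain ⟨w, hw⟩ := h1
    have h2 : algebraMap Λ (Localization.Away f) c = 0 := by
      have h3 := congrArg (piLoc f) hw
      rw [piLoc_psi, map_sub, hz, zero_sub, eq_comm, neg_eq_zero, piLoc_single, Algebra.smul_def] at h3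
      refine (IsUnit.mul_left_eq_zero ?_).1 h3
      exact (IsUnit.of_mul_eq_one_right _ (algebraMap_mul_invSelf' f)).pow N
    obtain ⟨⟨_, k, rfl⟩, hk⟩ := (IsLocalization.map_eq_zero_iff (Submonoid.powers f) _ c).1 h2
    have h4 : Finsupp.single N c ∈ R := by
      have := single_sub_mem_range f N k c
      rwa [smul_eq_mul, show f ^ k * c = 0 from hk, Finsupp.single_zero, sub_zero] at this
    obtain ⟨v, hv⟩ := h4
    exact ⟨w + v, by rw [map_add, hw, hv, sub_add_cancel]⟩
  · rintro ⟨w, rfl⟩
    exact piLoc_psi f w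

/-- Finitely supported sequences form the countable copower. -/
noncomputable def finsuppIso (M : ModuleCat.{v} Λ) : ModuleCat.of Λ (ℕ →₀ M) ≅ ∐ fun _ : ℕ => M where
  hom := ModuleCat.ofHom (Finsupp.lsum (S := Λ) (M := M) (N := (∐ fun _ : ℕ => M : ModuleCat.{v} Λ))
    fun n => (Sigma.ι (fun _ : ℕ => M) n).hom)
  inv := Sigma.desc fun n => ModuleCat.ofHom (Finsupp.lsingle n)
  hom_inv_id := by
    refine ModuleCat.hom_ext (Finsupp.lhom_ext fun n x => ?_)
    show (Sigma.desc fun n => ModuleCat.ofHom (Finsupp.lsingle (R := Λ) (M := M) n)).hom _ = _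
    refine (congrArg _ (Finsupp.lsum_single Λ _ n x)).trans ?_
    show (Sigma.ι (fun _ : ℕ => M) n ≫ Sigma.desc fun n => ModuleCat.ofHom (Finsupp.lsingle (R := Λ) (M := M) n)) x = _
    rw [Sigma.ι_desc]
    rfl
  inv_hom_id := Sigma.hom_ext _ _ fun n => by
    rw [Sigma.ι_desc_assoc, Category.comp_id]
    ext x
    exact Finsupp.lsum_single (S := Λ) (M := M) (N := (∐ fun _ : ℕ => M : ModuleCat.{v} Λ))
      (fun n => (Sigma.ι (fun _ : ℕ => M) n).hom) n x

theorem finsuppIso_psi (M : ModuleCat.{v} Λ) :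
    (finsuppIso M).inv ≫ ModuleCat.ofHom (psiFinsupp f) = psi' (smulModNat f) M ≫ (finsuppIso M).inv := by
  refine Sigma.hom_ext _ _ fun n => ?_
  simp only [psi', finsuppIso, Sigma.ι_desc_assoc, Preadditive.sub_comp, Category.assoc, Sigma.ι_desc]
  ext x : 2
  show psiFinsupp f (Finsupp.single n x) = Finsupp.single (n + 1) (f • x) - Finsupp.single n x
  exact psiFinsupp_single f n x

theorem mono_psi'_mod (M : ModuleCat.{v} Λ) : Mono (psi' (smulModNat f) M) := by
  haveI : Mono (ModuleCat.ofHom (psiFinsupp (M := M) f)) :=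
    (ModuleCat.mono_iff_injective _).2 (psiFinsupp_injective f)
  haveI : Mono (psi' (smulModNat f) M ≫ (finsuppIso M).inv) := by
    rw [← finsuppIso_psi]
    infer_instance
  exact mono_of_mono (psi' (smulModNat f) M) (finsuppIso M).inv

theorem exists_shortExact_loc : ∃ (π : (∐ fun _ : ℕ => ModuleCat.of Λ Λ) ⟶ ModuleCat.of Λ (Localization.Away f))
    (w : psi' (smulModNat f) (ModuleCat.of Λ Λ) ≫ π = 0), (ShortComplex.mk _ π w).ShortExact := by
  let E := finsuppIso (ModuleCat.of Λ Λ)
  have w : psi' (smulModNat f) (ModuleCat.of Λ Λ) ≫ (E.inv ≫ ModuleCat.ofHom (piLoc f)) = 0 := by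
    rw [← Category.assoc, ← finsuppIso_psi, Category.assoc, show ModuleCat.ofHom (psiFinsupp (M := Λ) f) ≫
      ModuleCat.ofHom (piLoc f) = 0 from ModuleCat.hom_ext (LinearMap.ext (piLoc_psi f)), comp_zero]
  refine ⟨_, w, ?_⟩
  haveI := mono_psi'_mod f (ModuleCat.of Λ Λ)
  haveI : Epi (ModuleCat.ofHom (piLoc f)) := (ModuleCat.epi_iff_surjective _).2 (piLoc_surjective f)
  let S' := ShortComplex.mk (ModuleCat.ofHom (psiFinsupp (M := Λ) f)) (ModuleCat.ofHom (piLoc f))
    (ModuleCat.hom_ext (LinearMap.ext (piLoc_psi f)))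
  have he : S'.Exact := (ShortComplex.ShortExact.moduleCat_exact_iff_function_exact S').2 (piLoc_exact f)
  let e : ShortComplex.mk _ _ w ≅ S' :=
    ShortComplex.isoMk E.symm E.symm (Iso.refl _) (finsuppIso_psi f _) (Category.comp_id _).symm
  exact { exact := (ShortComplex.exact_iff_of_iso e).2 he }

end Modules

end Groth.Agent.H1DC
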